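import Groth.Agent.Lib.ExtCech.Functorial
import Mathlib.Algebra.Module.Projective
import Mathlib.RingTheory.Finiteness.Cardinality
import Mathlib.CategoryTheory.Linear.LinearFunctor
import Mathlib.Algebra.Homology.Linear

/-!
# The extended Čech complex as a linear exact functor of the module, and duality on projectives
-/

universe u

open CategoryTheory Limits CochainComplex DerCA GrothLib.ExtCech

namespace GrothLib.SGA2Fin

variable {R : Type u} [CommRing R]

instance (S : Submonoid R) : (locFunctor (R := R) S).Linear R where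
  map_smul {A B} a r := ModuleCat.hom_ext (map_smul (IsLocalizedModule.map S
    (LocalizedModule.mkLinearMap S A) (LocalizedModule.mkLinearMap S B)) r a.hom)

section Cocone

variable {K L K' L' : DRing.Cx R} (φ : K ⟶ L) (φ' : K' ⟶ L') {a a₁ a₂ : K ⟶ K'} {b b₁ b₂ : L ⟶ L'}
  (h : φ ≫ b = a ≫ φ') (h₁ : φ ≫ b₁ = a₁ ≫ φ') (h₂ : φ ≫ b₂ = a₂ ≫ φ')

theorem coconeMap_add (ha : a = a₁ + a₂) (hb : b = b₁ + b₂) :
    coconeMap φ φ' a b h = coconeMap φ φ' a₁ b₁ h₁ + coconeMap φ φ' a₂ b₂ h₂ := by
  subst ha hb
  ext p : 1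
  refine cocone_ext _ ?_ ?_ <;>
    simp [coconeMap_fst_f, coconeMap_snd, Preadditive.add_comp, Preadditive.comp_add]

theorem coconeMap_smul (r : R) (ha : a = r • a₁) (hb : b = r • b₁) :
    coconeMap φ φ' a b h = r • coconeMap φ φ' a₁ b₁ h₁ := by
  subst ha hb
  ext p : 1
  refine cocone_ext _ ?_ ?_ <;>
    simp [coconeMap_fst_f, coconeMap_snd, Linear.smul_comp, Linear.comp_smul]

theorem coconeMap_id {a : K ⟶ K} {b : L ⟶ L} (h : φ ≫ b = a ≫ φ) (ha : a = 𝟙 K) (hb : b = 𝟙 L) :
    coconeMap φ φ a b h = 𝟙 _ := by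
  subst ha hb
  ext p : 1
  refine cocone_ext _ ?_ ?_ <;> simp [coconeMap_fst_f, coconeMap_snd]

theorem coconeMap_comp {K'' L'' : DRing.Cx R} (φ'' : K'' ⟶ L'') {a' : K' ⟶ K''} {b' : L' ⟶ L''}
    (h' : φ' ≫ b' = a' ≫ φ'') {a'' : K ⟶ K''} {b'' : L ⟶ L''} (h'' : φ ≫ b'' = a'' ≫ φ'')
    (ha : a'' = a ≫ a') (hb : b'' = b ≫ b') :
    coconeMap φ φ'' a'' b'' h'' = coconeMap φ φ' a b h ≫ coconeMap φ' φ'' a' b' h' := by
  subst ha hb
  ext p : 1
  refine cocone_ext _ ?_ ?_ <;>
    simp [coconeMap_fst_f, coconeMap_fst_f_assoc, coconeMap_snd, coconeMap_snd_assoc]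

end Cocone

/-- The extended Čech complex as a functor. -/
noncomputable def cxF (fs : List R) : ModuleCat.{u} R ⥤ DRing.Cx R where
  obj M := extCech M fs
  map g := cxMap g fs
  map_id M := by
    induction fs with
    | nil => exact (HomologicalComplex.single _ _ _).map_id M
    | cons f fs ih => exact coconeMap_id _ _ ih (by rw [ih]; exact CategoryTheory.Functor.map_id _ _)
  map_comp {M N P} g g' := by
    induction fs with
    | nil => exact (HomologicalComplex.single _ _ _).map_comp g g'
    | cons f fs ih => exact coconeMap_comp _ _ _ _ _ _ ih (by rw [ih]; exact Functor.map_comp _ _ _)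

instance (fs : List R) : (cxF fs).Additive where
  map_add {M N g g'} := by
    show cxMap (g + g') fs = cxMap g fs + cxMap g' fs
    induction fs with
    | nil => exact (HomologicalComplex.single _ _ _).map_add
    | cons f fs ih => exact coconeMap_add _ _ _ _ _ ih (by rw [ih]; exact Functor.map_add _)

instance (fs : List R) : (cxF fs).Linear R where
  map_smul {M N} g r := by
    show cxMap (r • g) fs = r • cxMap g fs
    induction fs with
    | nil =>
      show (HomologicalComplex.single _ _ _).map (r • g) = r • (HomologicalComplex.single _ _ _).map g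
      refine HomologicalComplex.from_single_hom_ext ?_
      simp [HomologicalComplex.single_map_f_self]
    | cons f fs ih =>
      refine coconeMap_smul _ _ _ _ r ih ?_
      rw [ih]
      exact HomologicalComplex.hom_ext _ _ fun i =>
        (locFunctor (Submonoid.powers f)).map_smul r ((cxMap g fs).f i)

/-- A term of the extended Čech complex as a functor of the module. -/
noncomputable abbrev cxT (fs : List R) (n : ℤ) : ModuleCat.{u} R ⥤ ModuleCat.{u} R :=
  cxF fs ⋙ HomologicalComplex.eval (ModuleCat.{u} R) (ComplexShape.up ℤ) n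

/-- Evaluation of an element of `F(P)` at the functionals on `P`. -/
noncomputable def dualEval (F : ModuleCat.{u} R ⥤ ModuleCat.{u} R) [F.Additive] [F.Linear R]
    (P : ModuleCat.{u} R) :
    F.obj P →ₗ[R] (ModuleCat.of R (P ⟶ ModuleCat.of R R) →ₗ[R] F.obj (ModuleCat.of R R)) :=
  LinearMap.mk₂ R (fun z ξ => (F.map ξ).hom z)
    (fun _ _ _ => map_add _ _ _)
    (fun _ _ _ => map_smul _ _ _)
    (fun z ξ ξ' => by rw [F.map_add]; rfl)
    (fun r z ξ => by rw [F.map_smul]; rfl)

theorem bijective_dualEval (F : ModuleCat.{u} R ⥤ ModuleCat.{u} R) [F.Additive] [F.Linear R]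
    (P : ModuleCat.{u} R) [Module.Finite R P] [Module.Projective R P] :
    Function.Bijective (dualEval F P) := by
  classical
  obtain ⟨n, f, hf⟩ := Module.Finite.exists_fin' R P
  obtain ⟨g, hg⟩ := Module.projective_lifting_property f LinearMap.id hf
  let ξ : Fin n → (P ⟶ ModuleCat.of R R) := fun k => ModuleCat.ofHom ((LinearMap.proj k).comp g)
  let p : Fin n → (ModuleCat.of R R ⟶ P) := fun k =>
    ModuleCat.ofHom (LinearMap.toSpanSingleton R P (f (Pi.single k 1)))
  have hid : ∑ k, ξ k ≫ p k = 𝟙 P := by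
    refine ModuleCat.hom_ext (LinearMap.ext fun x => ?_)
    rw [ModuleCat.hom_sum, LinearMap.sum_apply]
    show ∑ k, (g x k) • f (Pi.single k 1) = x
    conv_rhs => rw [← show f (g x) = x from LinearMap.congr_fun hg x, pi_eq_sum_univ' (g x), map_sum]
    simp [map_smul]
  have key : ∀ z : F.obj P, ∑ k, (F.map (p k)).hom ((F.map (ξ k)).hom z) = z := by
    intro z
    have h := congrArg (fun a => (F.map a).hom z) hid
    simp only [F.map_sum, F.map_id, ModuleCat.hom_sum, LinearMap.sum_apply] at h
    refine Eq.trans (Finset.sum_congr rfl fun k _ => ?_) h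
    rw [F.map_comp]
    rfl
  refine ⟨fun z z' h => ?_, fun φ => ⟨∑ k, (F.map (p k)).hom (φ (ξ k)), LinearMap.ext fun η => ?_⟩⟩
  · rw [← key z, ← key z']
    exact Finset.sum_congr rfl fun k _ =>
      congrArg (F.map (p k)).hom (LinearMap.congr_fun h (ξ k))
  · show (F.map η).hom (∑ k, (F.map (p k)).hom (φ (ξ k))) = φ η
    have hη : η = ∑ k, (η.hom (f (Pi.single k 1))) • ξ k := by
      conv_lhs => rw [← Category.id_comp η, ← hid, Preadditive.sum_comp]
      refine Finset.sum_congr rfl fun k _ => ?_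
      refine ModuleCat.hom_ext (LinearMap.ext fun x => ?_)
      show η.hom ((g x k) • f (Pi.single k 1)) = (η.hom (f (Pi.single k 1))) • (g x k)
      rw [map_smul, smul_eq_mul, smul_eq_mul, mul_comm]
    rw [map_sum]
    conv_rhs => rw [hη, map_sum]
    refine Finset.sum_congr rfl fun k _ => ?_
    rw [map_smul]
    have hpk : p k ≫ η = (η.hom (f (Pi.single k 1))) • 𝟙 (ModuleCat.of R R) := by
      refine ModuleCat.hom_ext (LinearMap.ext_ring ?_)
      show η.hom ((1 : R) • f (Pi.single k 1)) = (η.hom (f (Pi.single k 1))) • (1 : R)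
      rw [one_smul, smul_eq_mul, mul_one]
    have h2 := congrArg (fun a => (F.map a).hom (φ (ξ k))) hpk
    simp only [F.map_comp, F.map_smul, F.map_id] at h2
    exact h2

end GrothLib.SGA2Fin
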