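import Groth.Agent.Lib.SGA2Fin.FiniteH
import Groth.Agent.Lib.LC.BaseChange
import Groth.Agent.Lib.Faltings.UpperBound
import Groth.Agent.Lib.Faltings.Finite
import Mathlib.RingTheory.Ideal.AssociatedPrime.Localization

/-!
# Finiteness of local cohomology below a degree and depth at codimension one
-/

universe u

open CategoryTheory GrothLib.Faltings IsLocalRing

namespace GrothLib.SGA2Fin

section

variable {R A : Type u} [CommRing R] [IsRegularRing R] [CommRing A] [IsNoetherianRing A] [Algebra R A]

/-- The finiteness criterion over a surjective image of a regular ring. -/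
theorem finite_localCohomology_of_surjective (hπ : Function.Surjective (algebraMap R A)) (I : Ideal A)
    (M : Type u) [AddCommGroup M] [Module A M] [Module.Finite A M] (i : ℕ)
    (h : ∀ p : PrimeSpectrum A, ¬ I ≤ p.asIdeal → SGA2.relCodim I p = 1 → ∀ j : ℕ, j + 1 = i →
      Subsingleton (LocCoh.H (maximalIdeal (Localization.AtPrime p.asIdeal)) j
        (LocalizedModule p.asIdeal.primeCompl M))) :
    Module.Finite A (LocCoh.H I i M) := by
  let _ : Module R M := Module.compHom M (algebraMap R A)
  have : IsScalarTower R A M := IsScalarTower.of_algebraMap_smul fun _ _ => rfl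
  have : Module.Finite R A := Module.Finite.of_surjective (Algebra.linearMap R A) hπ
  have : Module.Finite R M := Module.Finite.trans A M
  obtain ⟨t, ht⟩ := finite_localCohomology_of_codimOneVanish (I.comap (algebraMap R A)) M i
    (codimOneVanish_restrictScalars hπ I M i h)
  suffices hmain : Module.Finite A (LocCoh.H ((I.comap (algebraMap R A)).map (algebraMap R A)) i M) by
    rwa [Ideal.map_comap_of_surjective _ hπ I] at hmain
  obtain ⟨φ, hφ⟩ := GrothLib.LC.exists_H_addEquiv_restrictScalars (R' := A) (I.comap (algebraMap R A)) i M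
  classical
  refine ⟨⟨t.image φ.symm, ?_⟩⟩
  rw [eq_top_iff]
  intro x _
  have key : ∀ y ∈ Submodule.span R (t : Set (LocCoh.H (I.comap (algebraMap R A)) i M)),
      φ.symm y ∈ Submodule.span A ((t.image φ.symm : Finset _) : Set _) := by
    intro y hy
    induction hy using Submodule.span_induction with
    | mem z hz => exact Submodule.subset_span (Finset.mem_image_of_mem _ hz)
    | zero => rw [map_zero]; exact Submodule.zero_mem _
    | add a b _ _ ha hb => rw [map_add]; exact Submodule.add_mem _ ha hb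
    | smul r z _ hz =>
      have e : φ.symm (r • z) = algebraMap R A r • φ.symm z := by
        apply φ.injective
        rw [hφ, φ.apply_symm_apply, φ.apply_symm_apply]
      rw [e]
      exact Submodule.smul_mem _ _ hz
  rw [← φ.symm_apply_apply x]
  exact key _ (ht ▸ Submodule.mem_top)

omit [IsRegularRing R] [IsNoetherianRing A] in
/-- Relative heights in a quotient are those upstairs. -/
theorem relHeight_comap_eq (hπ : Function.Surjective (algebraMap R A)) (p q : Ideal A) [p.IsPrime]
    [q.IsPrime] (h : p ≤ q) :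
    relHeight (p.comap (algebraMap R A)) (q.comap (algebraMap R A)) = relHeight p q := by
  have hord : ∀ P Q : Ideal A, P.IsPrime → Q.IsPrime →
      P.comap (algebraMap R A) ≤ Q.comap (algebraMap R A) → P ≤ Q :=
    fun P Q _ _ hle => comap_le_comap_iff_of_surjective' (algebraMap R A) hπ P Q hle
  refine le_antisymm (relHeight_comap_le (algebraMap R A) hord rfl rfl h fun t ht hpt _ => ?_)
    (relHeight_le_comap (algebraMap R A) hord rfl rfl h)
  have hker : RingHom.ker (algebraMap R A) ≤ t := (Ideal.ker_le_comap _).trans hpt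
  exact ⟨t.map (algebraMap R A), Ideal.map_isPrime_of_surjective hπ hker, comap_map_eq hπ hker⟩

/-- Quotients of regular rings are catenary. -/
theorem relHeight_eq_add_one (hπ : Function.Surjective (algebraMap R A)) {p₀ p q : Ideal A} [p₀.IsPrime]
    [p.IsPrime] [q.IsPrime] (h₀ : p₀ ≤ p) (h : p ≤ q) (h1 : relHeight p q = 1) :
    relHeight p₀ q = relHeight p₀ p + 1 := by
  rw [← relHeight_comap_eq hπ p₀ q (h₀.trans h), ← relHeight_comap_eq hπ p₀ p h₀]
  rw [← relHeight_comap_eq hπ p q h] at h1
  set P₀ := p₀.comap (algebraMap R A)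
  set P := p.comap (algebraMap R A)
  set Q := q.comap (algebraMap R A)
  have hP₀ : P₀ ≤ P := Ideal.comap_mono h₀
  have hPQ : P ≤ Q := Ideal.comap_mono h
  obtain ⟨a, ha⟩ := ENat.ne_top_iff_exists.1 (Ideal.height_ne_top (I := P₀) (Ideal.IsPrime.ne_top inferInstance))
  obtain ⟨b, hb⟩ := ENat.ne_top_iff_exists.1 (Ideal.height_ne_top (I := P) (Ideal.IsPrime.ne_top inferInstance))
  obtain ⟨g, hg⟩ := ENat.ne_top_iff_exists.1 (Ideal.height_ne_top (I := Q) (Ideal.IsPrime.ne_top inferInstance))
  obtain ⟨c₁, hc₁⟩ := ENat.ne_top_iff_exists.1 (relHeight_ne_top P₀ P hP₀)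
  obtain ⟨c₂, hc₂⟩ := ENat.ne_top_iff_exists.1 (relHeight_ne_top P₀ Q (hP₀.trans hPQ))
  have e1 := height_eq_add_relHeight P₀ P hP₀ ha.symm hc₁.symm hb.symm
  have e2 := height_eq_add_relHeight P₀ Q (hP₀.trans hPQ) ha.symm hc₂.symm hg.symm
  have e3 := height_eq_add_relHeight P Q hPQ (c := 1) hb.symm (by exact_mod_cast h1) hg.symm
  rw [← hc₁, ← hc₂, show c₂ = c₁ + 1 by omega, Nat.cast_add, Nat.cast_one]

end

section

variable {A : Type u} [CommRing A] [IsNoetherianRing A]

omit [IsNoetherianRing A] in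
theorem relHeight_eq_one_of_covBy {p q : PrimeSpectrum A} (h : p ⋖ q) :
    relHeight p.asIdeal q.asIdeal = 1 := by
  refine le_antisymm ?_ (one_le_relHeight p.asIdeal q.asIdeal h.lt)
  rw [← height_Ici_eq p q h.le]
  refine Order.height_le fun l hl => ?_
  by_contra hgt
  rw [not_le] at hgt
  have hlen : 2 ≤ l.length := by exact_mod_cast hgt
  have h1 : l ⟨l.length - 1, by omega⟩ < l.last := l.strictMono (Fin.lt_def.2 (by simp; omega))
  have h2 : (⟨p, Set.self_mem_Ici⟩ : Set.Ici p) < l ⟨l.length - 1, by omega⟩ :=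
    lt_of_le_of_lt (show (⟨p, Set.self_mem_Ici⟩ : Set.Ici p) ≤ l.head from l.head.2)
      (l.strictMono (Fin.lt_def.2 (by simp; omega)))
  rw [hl] at h1
  exact h.2 (show p < (l ⟨l.length - 1, by omega⟩).1 from h2)
    (show (l ⟨l.length - 1, by omega⟩).1 < q from h1)

omit [IsNoetherianRing A] in
theorem exists_covBy_of_relCodim_eq_one {I : Ideal A} {p : PrimeSpectrum A}
    (hc : SGA2.relCodim I p = 1) : ∃ q, I ≤ q.asIdeal ∧ p ⋖ q := by
  obtain ⟨q, hpq, hIq, hh⟩ := exists_relCodim_eq I p (c := 1) (by exact_mod_cast hc)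
  have hlt : p < q := lt_of_le_of_ne hpq fun e => by
    subst e
    rw [relHeight_self] at hh
    simp at hh
  refine ⟨q, hIq, hlt, fun t hpt htq => ?_⟩
  have h2 := (add_le_add (one_le_relHeight p.asIdeal t.asIdeal hpt)
    (one_le_relHeight t.asIdeal q.asIdeal htq)).trans
    (relHeight_add_le p.asIdeal t.asIdeal q.asIdeal hpt.le htq.le)
  rw [hh] at h2
  exact absurd h2 (by decide)

/-- Finiteness below `n` bounds the depth at primes covered in `V(I)` from below. -/
theorem le_depth_of_finite {I : Ideal A} {M : Type u} [AddCommGroup M] [Module A M] [Module.Finite A M]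
    {n : ℕ} (hfin : ∀ i ≤ n, Module.Finite A (LocCoh.H I i M)) {p q : PrimeSpectrum A}
    (hp : ¬ I ≤ p.asIdeal) (hq : I ≤ q.asIdeal) (hpq : p ⋖ q) :
    (n : ℕ∞) ≤ LocCoh.depth (Localization.AtPrime p.asIdeal) (LocalizedModule p.asIdeal.primeCompl M) := by
  rcases subsingleton_or_nontrivial (LocalizedModule p.asIdeal.primeCompl M) with h | h
  · rw [GrothLib.Depth.depth_eq_top_of_subsingleton]
    exact le_top
  obtain ⟨m, hm⟩ := exists_depth_eq p.asIdeal M
  rw [hm, Nat.cast_le]
  by_contra hlt
  obtain ⟨x, hxI, hxp⟩ := SetLike.not_le_iff_exists.1 hp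
  obtain ⟨i, hi, hk⟩ := exists_not_killed_height_one I p.asIdeal q.asIdeal hpq.le hq hp
    (relHeight_eq_one_of_covBy hpq) hxp m M hm
  have := hfin i (by omega)
  exact hk ((killed_of_finite hxI).localized q.asIdeal.primeCompl)

/-- The converse, over quotients of regular rings. -/
theorem finite_of_le_depth {R : Type u} [CommRing R] [IsRegularRing R] [Algebra R A]
    (hπ : Function.Surjective (algebraMap R A)) {I : Ideal A} {M : Type u} [AddCommGroup M] [Module A M]
    [Module.Finite A M] {n : ℕ}
    (h : ∀ p q : PrimeSpectrum A, ¬ I ≤ p.asIdeal → I ≤ q.asIdeal → p ⋖ q → (n : ℕ∞) ≤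
      LocCoh.depth (Localization.AtPrime p.asIdeal) (LocalizedModule p.asIdeal.primeCompl M))
    (i : ℕ) (hi : i ≤ n) : Module.Finite A (LocCoh.H I i M) := by
  refine finite_localCohomology_of_surjective hπ I M i fun p hp hc j hj => ?_
  obtain ⟨q, hq, hpq⟩ := exists_covBy_of_relCodim_eq_one hc
  have := GrothLib.Depth.isNoetherian_atPrime p.asIdeal
  exact (GrothLib.Depth.le_idealDepth_iff_H _ n).1 (h p q hp hq hpq) j (by omega)

/-- For `M_p` Cohen–Macaulay, `c(p₀) ≤ depth M_p + 1` when `p₀ ≤ p` is minimal in the support. -/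
theorem relCodim_le_depth_add_one {R : Type u} [CommRing R] [IsRegularRing R] [Algebra R A]
    (hπ : Function.Surjective (algebraMap R A)) {I : Ideal A} {M : Type u} [AddCommGroup M] [Module A M]
    [Module.Finite A M] {p₀ p q : PrimeSpectrum A} (h₀ : p₀ ≤ p) (hq : I ≤ q.asIdeal) (hpq : p ⋖ q)
    (hmin : p₀.asIdeal ∈ (Module.annihilator A M).minimalPrimes)
    (hCM : LocCoh.IsCohenMacaulayModule (Localization.AtPrime p.asIdeal)
      (LocalizedModule p.asIdeal.primeCompl M)) :
    SGA2.relCodim I p₀ ≤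
      LocCoh.depth (Localization.AtPrime p.asIdeal) (LocalizedModule p.asIdeal.primeCompl M) + 1 := by
  let B := Localization.AtPrime p.asIdeal
  let X := LocalizedModule p.asIdeal.primeCompl M
  have := GrothLib.Depth.isNoetherian_atPrime p.asIdeal
  have : Module.Finite B X := Module.Finite.of_isLocalizedModule p.asIdeal.primeCompl
    (LocalizedModule.mkLinearMap p.asIdeal.primeCompl M)
  refine (relCodim_le I p₀ q (h₀.trans hpq.le) hq).trans ?_
  rw [relHeight_eq_add_one hπ h₀ hpq.le (relHeight_eq_one_of_covBy hpq)]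
  refine add_le_add ?_ le_rfl
  have hd := disjoint_primeCompl (q := p.asIdeal) h₀
  have hass := mem_associatedPrimes_localization p.asIdeal.primeCompl
    (Module.associatedPrimes.minimalPrimes_annihilator_subset_associatedPrimes A M hmin) hd
  have hann : Module.annihilator B X ≤ p₀.asIdeal.map (algebraMap A B) :=
    le_of_eq_of_le Submodule.annihilator_top.symm hass.annihilator_le
  have hP : (p₀.asIdeal.map (algebraMap A B)).IsPrime := hass.isPrime
  have : Nontrivial (B ⧸ p₀.asIdeal.map (algebraMap A B)) := Ideal.Quotient.nontrivial_iff.2 hP.ne_top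
  have : IsLocalRing (B ⧸ p₀.asIdeal.map (algebraMap A B)) :=
    IsLocalRing.of_surjective' _ Ideal.Quotient.mk_surjective
  have h1 := ringKrullDim_le_of_surjective (Ideal.Quotient.factor hann)
    (Ideal.Quotient.factor_surjective hann)
  rw [← IsLocalRing.maximalIdeal_height_eq_ringKrullDim, ← IsLocalRing.map_maximalIdeal_of_surjective _
    (Ideal.Quotient.mk_surjective (I := p₀.asIdeal.map (algebraMap A B))),
    ← Module.supportDim_eq_ringKrullDim_quotient_annihilator, hCM] at h1
  have h3 := relHeight_atPrime p₀.asIdeal p.asIdeal p.asIdeal h₀ le_rfl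
  rw [Localization.AtPrime.map_eq_maximalIdeal] at h3
  rw [← h3]
  exact WithBot.coe_le_coe.1 h1

/-- If `c(p) = c + 1`, there is a prime at height `c` over `p`, off `V(I)`, covered in `V(I)`. -/
theorem exists_covBy_of_relCodim_eq_succ {I : Ideal A} {p : PrimeSpectrum A} {c : ℕ}
    (hc : SGA2.relCodim I p = (c + 1 : ℕ)) :
    ∃ t q : PrimeSpectrum A, p ≤ t ∧ ¬ I ≤ t.asIdeal ∧ I ≤ q.asIdeal ∧ t ⋖ q ∧
      relHeight p.asIdeal t.asIdeal = c := by
  obtain ⟨q, hpq, hIq, hh⟩ := exists_relCodim_eq I p hc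
  have hq : Order.height (⟨q, hpq⟩ : Set.Ici p) = (c + 1 : ℕ) := by rw [height_Ici_eq p q hpq, hh]
  obtain ⟨l, hl, hlen⟩ := Order.exists_series_of_height_eq_coe _ hq
  let T := l ⟨c, by omega⟩
  have hT : Order.height T = c :=
    Order.height_eq_index_of_length_eq_height_last (by rw [hl, hq, hlen]) ⟨c, by omega⟩
  rw [show T = ⟨T.1, T.2⟩ from rfl, height_Ici_eq p T.1 T.2] at hT
  have hTq : T.1 < q := by
    have h : T < l.last := l.strictMono (Fin.lt_def.2 (show c < l.length by omega))
    rw [hl] at h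
    exact h
  refine ⟨T.1, q, T.2, fun hI => ?_, hIq, ⟨hTq, fun t ht htq => ?_⟩, hT⟩
  · have h := relCodim_le I p T.1 T.2 hI
    rw [hc, hT, Nat.cast_le] at h
    omega
  · have h2 := (add_le_add (one_le_relHeight T.1.asIdeal t.asIdeal ht)
      (one_le_relHeight t.asIdeal q.asIdeal htq)).trans
      (relHeight_add_le T.1.asIdeal t.asIdeal q.asIdeal ht.le htq.le)
    have h3 := (add_le_add (le_of_eq hT.symm) h2).trans
      (relHeight_add_le p.asIdeal T.1.asIdeal q.asIdeal T.2 hTq.le)
    rw [hh] at h3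
    norm_cast at h3
    omega

end

end GrothLib.SGA2Fin
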