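import Groth.Agent.Lib.SGA2Fin.Primes
import Groth.Agent.Lib.LC.BaseChange

/-!
# Passing to a surjective image
-/

universe u

open CategoryTheory IsLocalRing

namespace GrothLib.SGA2Fin

variable {R A : Type u} [CommRing R] [CommRing A] [Algebra R A]

theorem subsingleton_stalk_iff [IsNoetherianRing R] [IsNoetherianRing A]
    (hπ : Function.Surjective (algebraMap R A)) (M : Type u) [AddCommGroup M] [Module A M] [Module R M]
    [IsScalarTower R A M] (p' : Ideal A) [p'.IsPrime] (p : Ideal R) [p.IsPrime]
    (hp : p'.comap (algebraMap R A) = p) (j : ℕ) :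
    Subsingleton (LocCoh.H (maximalIdeal (Localization.AtPrime p)) j (LocalizedModule p.primeCompl M)) ↔
      Subsingleton (LocCoh.H (maximalIdeal (Localization.AtPrime p')) j (LocalizedModule p'.primeCompl M)) := by
  let P := Localization.AtPrime p
  let P' := Localization.AtPrime p'
  haveI : IsNoetherianRing P := IsLocalization.isNoetherianRing p.primeCompl _ inferInstance
  haveI : IsNoetherianRing P' := IsLocalization.isNoetherianRing p'.primeCompl _ inferInstance
  let N := LocalizedModule p'.primeCompl M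
  have hnp : ∀ {t : R}, t ∉ p → algebraMap R A t ∉ p' := fun ht h => ht (hp ▸ h)
  let φ : P →+* P' := Localization.localRingHom p p' (algebraMap R A) hp.symm
  letI : Algebra P P' := φ.toAlgebra
  haveI : IsScalarTower R P P' := IsScalarTower.of_algebraMap_eq fun r => by
    show algebraMap R P' r = φ (algebraMap R P r)
    rw [Localization.localRingHom_to_map]
    exact IsScalarTower.algebraMap_apply R A P' r
  have hφ : Function.Surjective (algebraMap P P') := by
    intro z
    obtain ⟨⟨a, s⟩, hs⟩ := IsLocalization.surj p'.primeCompl z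
    obtain ⟨r, rfl⟩ := hπ a
    obtain ⟨r', hr'⟩ := hπ (s : A)
    have hr'p : r' ∉ p := fun h => s.2 (hr' ▸ hp.ge h)
    refine ⟨IsLocalization.mk' P r (⟨r', hr'p⟩ : p.primeCompl), ?_⟩
    have hu : IsUnit (algebraMap A P' (s : A)) := IsLocalization.map_units P' s
    refine hu.mul_left_injective ?_
    show algebraMap P P' _ * algebraMap A P' (s : A) = z * algebraMap A P' (s : A)
    rw [hs]
    conv_lhs => rw [← hr', ← IsScalarTower.algebraMap_apply R A P', IsScalarTower.algebraMap_apply R P P',
      ← map_mul]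
    rw [IsLocalization.mk'_spec P r (⟨r', hr'p⟩ : p.primeCompl),
      ← IsScalarTower.algebraMap_apply R P P', ← IsScalarTower.algebraMap_apply R A P']
  letI : Module P N := Module.compHom N φ
  haveI : IsScalarTower P P' N := IsScalarTower.of_algebraMap_smul fun _ _ => rfl
  haveI : IsScalarTower R P N := IsScalarTower.of_algebraMap_smul fun r x => by
    show φ (algebraMap R P r) • x = r • x
    rw [Localization.localRingHom_to_map, algebraMap_smul, algebraMap_smul]
  let ι : M →ₗ[R] N := (LocalizedModule.mkLinearMap p'.primeCompl M).restrictScalars R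
  haveI : IsLocalizedModule p.primeCompl ι := by
    refine ⟨fun t => ?_, fun z => ?_, fun {m₁ m₂} h => ?_⟩
    · rw [Module.End.isUnit_iff]
      have h1 := (Module.End.isUnit_iff _).1 (IsLocalizedModule.map_units
        (LocalizedModule.mkLinearMap p'.primeCompl M) (⟨_, hnp t.2⟩ : p'.primeCompl))
      convert h1 using 1
      funext x
      exact (algebraMap_smul A (t : R) x).symm
    · obtain ⟨⟨m, s⟩, hz⟩ := IsLocalizedModule.surj p'.primeCompl
        (LocalizedModule.mkLinearMap p'.primeCompl M) z
      obtain ⟨r, hr⟩ := hπ (s : A)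
      refine ⟨⟨m, ⟨r, fun h => s.2 (hr ▸ hp.ge h)⟩⟩, ?_⟩
      show r • z = (LocalizedModule.mkLinearMap p'.primeCompl M) m
      rw [← algebraMap_smul A r z, hr]
      exact hz
    · obtain ⟨s, hs⟩ := IsLocalizedModule.exists_of_eq (S := p'.primeCompl)
        (f := LocalizedModule.mkLinearMap p'.primeCompl M) h
      obtain ⟨r, hr⟩ := hπ (s : A)
      refine ⟨⟨r, fun h => s.2 (hr ▸ hp.ge h)⟩, ?_⟩
      show r • m₁ = r • m₂
      rw [← algebraMap_smul A r m₁, ← algebraMap_smul A r m₂, hr]
      exact hs
  let e : LocalizedModule p.primeCompl M ≃ₗ[P] N :=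
    LinearEquiv.extendScalarsOfIsLocalization p.primeCompl P
      (IsLocalizedModule.linearEquiv p.primeCompl (LocalizedModule.mkLinearMap p.primeCompl M) ι)
  have hmap : (maximalIdeal P).map (algebraMap P P') = maximalIdeal P' :=
    IsLocalRing.map_maximalIdeal_of_surjective _ hφ
  refine (((localCohomology (maximalIdeal P) j).mapIso
    e.toModuleIso).toLinearEquiv.toEquiv.subsingleton_congr).trans ?_
  rw [← hmap]
  exact (GrothLib.LC.subsingleton_map_iff (R' := P') (maximalIdeal P) j N).symm

theorem relCodim_comap_eq (hπ : Function.Surjective (algebraMap R A)) (I : Ideal A) (p : PrimeSpectrum A) :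
    SGA2.relCodim I p =
      SGA2.relCodim (I.comap (algebraMap R A)) (PrimeSpectrum.comap (algebraMap R A) p) := by
  have hker : ∀ Q : PrimeSpectrum R, PrimeSpectrum.comap (algebraMap R A) p ≤ Q →
      RingHom.ker (algebraMap R A) ≤ Q.asIdeal := fun Q hQ =>
    le_trans (Ideal.ker_le_comap _) hQ
  let e : Set.Ici p ≃o Set.Ici (PrimeSpectrum.comap (algebraMap R A) p) :=
    { toFun := fun q => ⟨PrimeSpectrum.comap (algebraMap R A) q.1, Ideal.comap_mono q.2⟩
      invFun := fun Q => ⟨⟨Q.1.asIdeal.map (algebraMap R A),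
          Ideal.map_isPrime_of_surjective hπ (hker Q.1 Q.2)⟩, by
        show p.asIdeal ≤ Q.1.asIdeal.map (algebraMap R A)
        rw [← Ideal.map_comap_of_surjective _ hπ p.asIdeal]
        exact Ideal.map_mono Q.2⟩
      left_inv := fun q => Subtype.ext (PrimeSpectrum.ext (Ideal.map_comap_of_surjective _ hπ q.1.asIdeal))
      right_inv := fun Q => Subtype.ext (PrimeSpectrum.ext
        (GrothLib.Faltings.comap_map_eq hπ (hker Q.1 Q.2)))
      map_rel_iff' := fun {a b} => by
        show a.1.asIdeal.comap _ ≤ b.1.asIdeal.comap _ ↔ a.1.asIdeal ≤ b.1.asIdeal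
        rw [← Ideal.map_le_iff_le_comap, Ideal.map_comap_of_surjective _ hπ] }
  refine le_antisymm (le_iInf fun Q => ?_) (le_iInf fun q => ?_)
  · refine iInf_le_of_le ⟨(e.symm ⟨Q.1, Q.2.1⟩).1, (e.symm ⟨Q.1, Q.2.1⟩).2, ?_⟩ (le_of_eq ?_)
    · exact (Ideal.map_comap_of_surjective _ hπ I).symm.le.trans (Ideal.map_mono Q.2.2)
    · exact Order.height_orderIso e.symm ⟨Q.1, Q.2.1⟩
  · refine iInf_le_of_le ⟨(e ⟨q.1, q.2.1⟩).1, (e ⟨q.1, q.2.1⟩).2, Ideal.comap_mono q.2.2⟩ (le_of_eq ?_)
    exact Order.height_orderIso e ⟨q.1, q.2.1⟩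

end GrothLib.SGA2Fin
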