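import Groth.Agent.Lib.SGA2Fin.DepthCrit
import Groth.Agent.Lib.LC.Artinian
import Groth.Agent.S0564
import Mathlib.RingTheory.FiniteLength

/-!
# Finite length of local cohomology at the closed point
-/

universe u

open CategoryTheory Abelian GrothLib.Faltings IsLocalRing

namespace GrothLib.SGA2Fin

section

variable {A : Type u} [CommRing A] [IsNoetherianRing A] [IsLocalRing A]

omit [IsNoetherianRing A] in
theorem relHeight_maximalIdeal (p : Ideal A) [p.IsPrime] :
    (relHeight p (maximalIdeal A) : WithBot ℕ∞) = ringKrullDim (A ⧸ p) := by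
  have : Nontrivial (A ⧸ p) := Ideal.Quotient.nontrivial_iff.2 (Ideal.IsPrime.ne_top ‹_›)
  have : IsLocalRing (A ⧸ p) := IsLocalRing.of_surjective' _ Ideal.Quotient.mk_surjective
  rw [← maximalIdeal_height_eq_ringKrullDim, ← map_maximalIdeal_of_surjective _ (Ideal.Quotient.mk_surjective (I := p))]

omit [IsNoetherianRing A] in
theorem relCodim_maximalIdeal (p : PrimeSpectrum A) :
    SGA2.relCodim (maximalIdeal A) p = relHeight p.asIdeal (maximalIdeal A) := by
  let mP : PrimeSpectrum A := ⟨maximalIdeal A, inferInstance⟩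
  refine le_antisymm (relCodim_le _ p mP (le_maximalIdeal p.2.ne_top) le_rfl) (le_iInf fun q => ?_)
  rw [height_Ici_eq]
  exact relHeight_mono _ q.2.2

theorem isFiniteLength_of_finite (M : Type u) [AddCommGroup M] [Module A M] (i : ℕ)
    [Module.Finite A (LocCoh.H (maximalIdeal A) i M)] :
    IsFiniteLength A (LocCoh.H (maximalIdeal A) i M) := by
  have hN := isNoetherian_of_isNoetherianRing_of_finite A (LocCoh.H (maximalIdeal A) i M)
  refine isFiniteLength_iff_isNoetherian_isArtinian.2 ⟨hN, ?_⟩
  obtain ⟨t, ht⟩ := (Module.Finite.fg_top : (⊤ : Submodule A (LocCoh.H (maximalIdeal A) i M)).FG)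
  choose N hN' using GrothLib.LC.isPowerTorsion (maximalIdeal A) i (ModuleCat.of A M)
  refine (GrothLib.LC.finite_iff_isArtinian_of_pow_smul (maximalIdeal A)
    (N := t.sup fun z => N z) fun a ha x => ?_).1 inferInstance
  induction (ht ▸ Submodule.mem_top : x ∈ Submodule.span A (t : Set _)) using Submodule.span_induction with
  | mem z hz => exact hN' z a (Ideal.pow_le_pow_right (Finset.le_sup (f := fun z => N z) hz) ha)
  | zero => exact smul_zero a
  | add u v _ _ hu hv => rw [smul_add, hu, hv, add_zero]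
  | smul r u _ hu => rw [smul_comm, hu, smul_zero]

end

section

variable (R : Type u) [CommRing R] [IsRegularLocalRing R]

theorem isRegularRing_of_isRegularLocalRing : IsRegularRing R :=
  ⟨fun p _ => Groth.Agent.S0564.result R p⟩

/-- Finite length of `H^i` at the closed point forces the shifted vanishing at the other stalks. -/
theorem subsingleton_stalk_of_killed (M : Type u) [AddCommGroup M] [Module R M] [Module.Finite R M] {i : ℕ}
    (hk : ∀ x ∈ maximalIdeal R, Killed (maximalIdeal R) x i M) (P : PrimeSpectrum R)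
    (hP : P.asIdeal ≠ maximalIdeal R) {e j : ℕ} (he : relHeight P.asIdeal (maximalIdeal R) = e)
    (hj : j + e = i) :
    Subsingleton (LocCoh.H (maximalIdeal (Localization.AtPrime P.asIdeal)) j
      (LocalizedModule P.asIdeal.primeCompl M)) := by
  have := isRegularRing_of_isRegularLocalRing R
  have := Groth.Agent.S0342.result R
  have := GrothLib.Gor.isCohenMacaulayLocalRing (A := R)
  obtain ⟨a, ha⟩ := ENat.ne_top_iff_exists.1 (Ideal.height_ne_top (I := P.asIdeal) P.2.ne_top)
  obtain ⟨h, hh⟩ := ENat.ne_top_iff_exists.1 (Ideal.height_ne_top (I := maximalIdeal R) (Ideal.IsPrime.ne_top inferInstance))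
  have hsum := height_eq_add_relHeight P.asIdeal (maximalIdeal R) (le_maximalIdeal P.2.ne_top) ha.symm he hh.symm
  have hdim : ringKrullDim R = h := by rw [← maximalIdeal_height_eq_ringKrullDim, ← hh]; rfl
  refine ((stalk_duality P.asIdeal ha.symm (ModuleCat.of R M)).1 j).2 fun s hs e' => ?_
  obtain ⟨x, hxm, hxP⟩ := SetLike.not_le_iff_exists.1
    (fun hle : maximalIdeal R ≤ P.asIdeal => hP ((le_maximalIdeal P.2.ne_top).antisymm hle))
  obtain ⟨k, hk⟩ := hk x hxm
  obtain ⟨f, hf⟩ := GrothLib.Gor.exists_isInjectiveHull R hdim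
  have eK := LinearMap.ringLmapEquivSelf R R (LocCoh.H (maximalIdeal R) h R)
  obtain ⟨d⟩ := GrothLib.CanonMod.local_duality hdim hf (GrothLib.CanonMod.cm_le_idealDepth hdim) eK s
    (ModuleCat.of R M) (by omega)
  rw [show h - s = i by omega] at d
  refine ⟨⟨x ^ k, fun hx => hxP (P.2.mem_of_pow_mem k hx)⟩, GrothLib.Matlis.applyₗ_injective hf _ ?_⟩
  refine LinearMap.ext fun φ => ?_
  have h0 : x ^ k • φ = 0 := d.symm.injective (by rw [map_smul, hk, map_zero])
  exact ((φ.map_smul (x ^ k) e').trans (LinearMap.congr_fun h0 e')).trans (map_zero φ).symm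

end

end GrothLib.SGA2Fin
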