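import Groth.Agent.Lib.Serre.Regular
import Mathlib.RingTheory.Spectrum.Prime.FreeLocus
import Mathlib.RingTheory.RegularLocalRing.Defs
import Mathlib.Algebra.Category.ModuleCat.Localization
import Mathlib.CategoryTheory.Preadditive.Projective.Resolution

/-!
# Finite projective resolutions over regular rings
-/

universe u

open CategoryTheory Limits

namespace GrothLib.SGA2Fin

section Seq

variable {R : Type u} [CommRing R] [IsNoetherianRing R]

theorem exists_cover (N : ModuleCat.{u} R) [Module.Finite R N] :
    ∃ (F : ModuleCat.{u} R) (π : F ⟶ N), Module.Finite R F ∧ Module.Projective R F ∧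
      Function.Surjective π.hom ∧ (Module.Projective R N → Function.Injective π.hom) := by
  by_cases h : Module.Projective R N
  · exact ⟨N, 𝟙 N, inferInstance, h, Function.surjective_id, fun _ => Function.injective_id⟩
  · obtain ⟨r, f, hf⟩ := Module.Finite.exists_fin' R N
    exact ⟨ModuleCat.of R (Fin r → R), ModuleCat.ofHom f, inferInstanceAs (Module.Finite R (Fin r → R)),
      inferInstanceAs (Module.Projective R (Fin r → R)), hf, fun h' => absurd h' h⟩

variable (M : ModuleCat.{u} R) [hM : Module.Finite R M]

/-- Finite modules, bundled. -/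
abbrev FinMod (R : Type u) [CommRing R] := {N : ModuleCat.{u} R // Module.Finite R N}

/-- A cover by a finite projective, injective if the module is projective. -/
structure Cover (N : ModuleCat.{u} R) where
  F : ModuleCat.{u} R
  π : F ⟶ N
  finite : Module.Finite R F
  projective : Module.Projective R F
  surjective : Function.Surjective π.hom
  injective : Module.Projective R N → Function.Injective π.hom

theorem nonempty_cover (N : FinMod R) : Nonempty (Cover N.1) := by
  obtain ⟨F, π, h1, h2, h3, h4⟩ := @exists_cover R _ _ N.1 N.2
  exact ⟨⟨F, π, h1, h2, h3, h4⟩⟩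

noncomputable def cover (N : FinMod R) : Cover N.1 := Classical.choice (nonempty_cover N)

noncomputable abbrev coverF (N : FinMod R) : ModuleCat.{u} R := (cover N).F

noncomputable abbrev coverπ (N : FinMod R) : coverF N ⟶ N.1 := (cover N).π

theorem cover_spec (N : FinMod R) : Module.Finite R (coverF N) ∧ Module.Projective R (coverF N) ∧
      Function.Surjective (coverπ N).hom ∧ (Module.Projective R N.1 → Function.Injective (coverπ N).hom) :=
  ⟨(cover N).finite, (cover N).projective, (cover N).surjective, (cover N).injective⟩

/-- The syzygies. -/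
noncomputable def syz : ℕ → FinMod R
  | 0 => ⟨M, hM⟩
  | n + 1 => ⟨ModuleCat.of R (LinearMap.ker (coverπ (syz n)).hom), by
      haveI := (cover_spec (syz n)).1
      exact inferInstanceAs (Module.Finite R (LinearMap.ker (coverπ (syz n)).hom))⟩

/-- The terms of the resolution. -/
noncomputable abbrev resX (n : ℕ) : ModuleCat.{u} R := coverF (syz M n)

/-- The differentials. -/
noncomputable def resD (n : ℕ) : resX M (n + 1) ⟶ resX M n :=
  coverπ (syz M (n + 1)) ≫ ModuleCat.ofHom (LinearMap.ker (coverπ (syz M n)).hom).subtype

theorem resD_range (n : ℕ) : LinearMap.range (resD M n).hom = LinearMap.ker (coverπ (syz M n)).hom := by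
  show LinearMap.range ((LinearMap.ker (coverπ (syz M n)).hom).subtype.comp (coverπ (syz M (n + 1))).hom) = _
  exact (LinearMap.range_comp_of_range_eq_top _ (LinearMap.range_eq_top.2 (cover_spec _).2.2.1)).trans
    (Submodule.range_subtype _)

theorem resD_ker (n : ℕ) : LinearMap.ker (resD M n).hom = LinearMap.ker (coverπ (syz M (n + 1))).hom := by
  show LinearMap.ker ((LinearMap.ker (coverπ (syz M n)).hom).subtype.comp (coverπ (syz M (n + 1))).hom) = _
  exact LinearMap.ker_comp_of_ker_eq_bot _ (Submodule.ker_subtype _)

/-- The resolution as a complex. -/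
noncomputable def resCx : ChainComplex (ModuleCat.{u} R) ℕ :=
  ChainComplex.of (resX M) (resD M) fun n => ModuleCat.hom_ext (LinearMap.ext fun v => by
    show (resD M n).hom ((resD M (n + 1)).hom v) = 0
    exact LinearMap.mem_ker.1 ((resD_ker M n).ge ((resD_range M (n + 1)).le (LinearMap.mem_range_self _ v))))

theorem resCx_d (n : ℕ) : (resCx M).d (n + 1) n = resD M n := ChainComplex.of_d (resX M) (resD M) n

theorem resCx_d_aug : (resCx M).d 1 0 ≫ coverπ (syz M 0) = 0 := by
  rw [resCx_d]
  refine ModuleCat.hom_ext (LinearMap.ext fun v => ?_)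
  show (coverπ (syz M 0)).hom ((resD M 0).hom v) = 0
  exact LinearMap.mem_ker.1 ((resD_range M 0).le (LinearMap.mem_range_self _ v))

/-- The resolution. -/
noncomputable def res : ProjectiveResolution M where
  complex := resCx M
  projective i := (IsProjective.iff_projective _).1 (cover_spec (syz M i)).2.1
  π := (ChainComplex.toSingle₀Equiv _ _).symm ⟨coverπ (syz M 0), resCx_d_aug M⟩
  quasiIso := ⟨fun i => by
    cases i with
    | zero =>
      rw [ChainComplex.quasiIsoAt₀_iff, ShortComplex.quasiIso_iff_of_zeros']
      · refine ⟨(ShortComplex.moduleCat_exact_iff _).2 fun v hv => ?_, (ModuleCat.epi_iff_surjective _).2 ?_⟩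
        · have hv' : (coverπ (syz M 0)).hom v = 0 := by
            have h := hv
            simp [ChainComplex.toSingle₀Equiv_symm_apply_f_zero] at h
            exact h
          obtain ⟨w, hw⟩ := (resD_range M 0).ge (LinearMap.mem_ker.2 hv')
          exact ⟨w, (congrArg (fun f => f.hom w) (resCx_d M 0)).trans hw⟩
        · intro x
          obtain ⟨v, hv⟩ := (cover_spec (syz M 0)).2.2.1 x
          refine ⟨v, ?_⟩
          simp [ChainComplex.toSingle₀Equiv_symm_apply_f_zero]
          exact hv
      · exact (resCx M).shape _ _ (by simp)
      · rfl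
      · rfl
    | succ i =>
      rw [quasiIsoAt_iff_exactAt' _ _ (HomologicalComplex.exactAt_single_obj _ _ _ _ (by simp)),
        HomologicalComplex.exactAt_iff' _ (i + 1 + 1) (i + 1) i (by simp) (by simp)]
      refine (ShortComplex.moduleCat_exact_iff _).2 fun v hv => ?_
      have hv' : (resD M i).hom v = 0 := (congrArg (fun f => f.hom v) (resCx_d M i)).symm.trans hv
      obtain ⟨w, hw⟩ := (resD_range M (i + 1)).ge ((resD_ker M i).le (LinearMap.mem_ker.2 hv'))
      exact ⟨w, (congrArg (fun f => f.hom w) (resCx_d M (i + 1))).trans hw⟩⟩

theorem finite_res (n : ℕ) : Module.Finite R ((res M).complex.X n) := (cover_spec (syz M n)).1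

theorem projective_res (n : ℕ) : Module.Projective R ((res M).complex.X n) := (cover_spec (syz M n)).2.1

theorem subsingleton_syz_succ (n : ℕ) (h : Module.Projective R (syz M n).1) :
    Subsingleton (syz M (n + 1)).1 := by
  show Subsingleton (LinearMap.ker (coverπ (syz M n)).hom)
  rw [LinearMap.ker_eq_bot.2 ((cover_spec (syz M n)).2.2.2 h)]
  infer_instance

theorem subsingleton_resX (n : ℕ) (h : Subsingleton (syz M n).1) : Subsingleton (resX M n) :=
  ((cover_spec (syz M n)).2.2.2 (Module.Projective.of_free)).subsingleton

theorem isZero_resX_of_projective {n : ℕ} (h : Module.Projective R (syz M n).1) :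
    ∀ m, n < m → IsZero ((res M).complex.X m) := by
  intro m hm
  obtain ⟨k, rfl⟩ := Nat.exists_eq_add_of_lt hm
  have hs : ∀ k, Subsingleton (syz M (n + k + 1)).1 := by
    intro k
    induction k with
    | zero => exact subsingleton_syz_succ M n h
    | succ k ih => exact subsingleton_syz_succ M (n + k + 1) (Module.Projective.of_free)
  exact ModuleCat.isZero_iff_subsingleton.2 (subsingleton_resX M (n + k + 1) (hs k))

end Seq

section Regular

variable {R : Type u} [CommRing R] [IsRegularRing R] (M : ModuleCat.{u} R) [hM : Module.Finite R M]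

theorem shortExact_syz (n : ℕ) :
    (coverπ (syz M n)).hom.shortComplexKer.ShortExact :=
  LinearMap.shortExact_shortComplexKer (cover_spec (syz M n)).2.2.1

theorem projective_loc_coverF (n : ℕ) (p : Ideal R) [p.IsPrime] :
    Projective ((coverF (syz M n)).localizedModule p.primeCompl) := by
  haveI := (cover_spec (syz M n)).2.1
  have hb := IsLocalizedModule.isBaseChange p.primeCompl (Localization p.primeCompl)
    ((coverF (syz M n)).localizedModuleMkLinearMap p.primeCompl)
  haveI : Module.Projective (Localization p.primeCompl) ((coverF (syz M n)).localizedModule p.primeCompl) :=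
    Module.Projective.of_equiv hb.equiv
  exact (IsProjective.iff_projective (R := Localization p.primeCompl) _).1 inferInstance

theorem pd_syz_loc (p : Ideal R) [p.IsPrime] {d : ℕ} (hd : ringKrullDim (Localization.AtPrime p) = d) :
    ∀ k n, k + n = d → HasProjectiveDimensionLT ((syz M n).1.localizedModule p.primeCompl) (k + 1) := by
  intro k n
  induction n generalizing k with
  | zero =>
    intro hk
    haveI := IsRegularRing.isRegularLocalRing_localization p
    rw [show k = d by omega]
    exact GrothLib.Serre.pdLE_of_isRegularLocalRing (Localization.AtPrime p) d hd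
      (M.localizedModule p.primeCompl)
  | succ n ih =>
    intro hk
    exact (((shortExact_syz M n).map_of_exact (ModuleCat.localizedModuleFunctor p.primeCompl)
      ).hasProjectiveDimensionLT_X₃_iff k (projective_loc_coverF M n p)).1 (ih (k + 1) (by omega))

theorem mem_freeLocus_iff_projective (N : ModuleCat.{u} R) [Module.Finite R N] (p : PrimeSpectrum R) :
    p ∈ Module.freeLocus R N ↔ Projective (N.localizedModule p.asIdeal.primeCompl) := by
  let e : (N.localizedModule p.asIdeal.primeCompl : Type u) ≃ₗ[Localization p.asIdeal.primeCompl]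
      LocalizedModule p.asIdeal.primeCompl N := Shrink.linearEquiv _ _
  haveI : Module.Finite (Localization.AtPrime p.asIdeal) (LocalizedModule p.asIdeal.primeCompl N) :=
    Module.Finite.of_isLocalizedModule p.asIdeal.primeCompl
      (LocalizedModule.mkLinearMap p.asIdeal.primeCompl N)
  haveI : IsNoetherianRing (Localization.AtPrime p.asIdeal) :=
    IsLocalization.isNoetherianRing p.asIdeal.primeCompl _ inferInstance
  rw [Module.mem_freeLocus, ← IsProjective.iff_projective]
  constructor
  · intro h
    haveI : Module.Projective (Localization p.asIdeal.primeCompl) (LocalizedModule p.asIdeal.primeCompl N) :=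
      @Module.Projective.of_free _ _ _ _ _ h
    exact Module.Projective.of_equiv e.symm
  · intro h
    haveI : Module.Projective (Localization.AtPrime p.asIdeal) (LocalizedModule p.asIdeal.primeCompl N) :=
      Module.Projective.of_equiv (R := Localization p.asIdeal.primeCompl) e
    haveI : Module.Flat (Localization.AtPrime p.asIdeal) (LocalizedModule p.asIdeal.primeCompl N) :=
      Module.Flat.of_projective
    exact Module.free_of_flat_of_isLocalRing

theorem freeLocus_mono (n : ℕ) : Module.freeLocus R (syz M n).1 ⊆ Module.freeLocus R (syz M (n + 1)).1 := by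
  intro p hp
  haveI := (syz M n).2
  haveI := (syz M (n + 1)).2
  rw [mem_freeLocus_iff_projective] at hp ⊢
  rw [projective_iff_hasProjectiveDimensionLT_one] at hp ⊢
  haveI := hp
  exact (((shortExact_syz M n).map_of_exact (ModuleCat.localizedModuleFunctor p.asIdeal.primeCompl)
    ).hasProjectiveDimensionLT_X₃_iff 0 (projective_loc_coverF M n p.asIdeal)).1
      (hasProjectiveDimensionLT_of_ge ((syz M n).1.localizedModule p.asIdeal.primeCompl) 1 2 (by omega))

/-- Finite modules over a regular ring have bounded resolutions by finite projectives. -/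
theorem exists_bound : ∃ b : ℕ, ∀ m, b < m → IsZero ((res M).complex.X m) := by
  have hfp : ∀ n, Module.FinitePresentation R (syz M n).1 := fun n => by
    haveI := (syz M n).2
    exact Module.finitePresentation_of_finite R _
  obtain ⟨n, hn⟩ := (isCompact_univ (X := PrimeSpectrum R)).elim_directed_cover
    (fun n => Module.freeLocus R (syz M n).1) (fun n => haveI := hfp n; Module.isOpen_freeLocus)
    (fun p _ => by
      haveI := IsRegularRing.isRegularLocalRing_localization p.asIdeal
      obtain ⟨d, hd⟩ : ∃ d : ℕ, ringKrullDim (Localization.AtPrime p.asIdeal) = d :=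
        ⟨_, (IsRegularLocalRing.spanFinrank_maximalIdeal (R := Localization.AtPrime p.asIdeal)).symm⟩
      haveI := (syz M d).2
      refine Set.mem_iUnion.2 ⟨d, (mem_freeLocus_iff_projective _ p).2 ?_⟩
      exact projective_iff_hasProjectiveDimensionLT_one.2 (pd_syz_loc M p.asIdeal hd 0 d (zero_add d)))
    (monotone_nat_of_le_succ (freeLocus_mono M)).directed_le
  haveI := hfp n
  exact ⟨n, isZero_resX_of_projective M (Module.freeLocus_eq_univ_iff.1 (Set.univ_subset_iff.1 hn))⟩

end Regular

end GrothLib.SGA2Fin
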