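import Groth.Agent.Lib.CanonMod.CM
import Groth.Agent.Lib.Faltings.RelHeight
import Groth.Agent.Lib.Faltings.Localize
import Groth.Agent.Lib.Gor.Basic
import Groth.Agent.S0342
import Groth.Prelude.Def_SGA2

/-!
# Codimensions in a regular ring
-/

universe u

open GrothLib.Faltings

namespace GrothLib.SGA2Fin

variable {R : Type u} [CommRing R]

/-- In a regular ring `ht Q = ht P + ht(Q/P)`. -/
theorem height_eq_add_relHeight [IsRegularRing R] (P Q : Ideal R) [P.IsPrime] [Q.IsPrime] (h : P ≤ Q)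
    {a c g : ℕ} (hP : P.height = a) (hc : relHeight P Q = c) (hQ : Q.height = g) : a + c = g := by
  let A := Localization.AtPrime Q
  haveI := IsRegularRing.isRegularLocalRing_localization Q
  haveI := Groth.Agent.S0342.result A
  haveI := GrothLib.Gor.isCohenMacaulayLocalRing (A := A)
  have hd := IsLocalization.disjoint_under_iff Q.primeCompl A
  haveI hPA : (P.map (algebraMap R A)).IsPrime :=
    IsLocalization.isPrime_of_isPrime_disjoint Q.primeCompl A P ‹_› (disjoint_primeCompl h)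
  have hn : ringKrullDim A = g := by
    rw [IsLocalization.AtPrime.ringKrullDim_eq_height Q A, hQ]; rfl
  have hg : (P.map (algebraMap R A)).height = a := by
    rw [IsLocalization.height_map_of_disjoint Q.primeCompl P (disjoint_primeCompl h), hP]
  haveI : Nontrivial (A ⧸ P.map (algebraMap R A)) := Ideal.Quotient.nontrivial_iff.2 hPA.ne_top
  haveI : IsLocalRing (A ⧸ P.map (algebraMap R A)) := IsLocalRing.of_surjective' _ Ideal.Quotient.mk_surjective
  have hdim : ringKrullDim (A ⧸ P.map (algebraMap R A)) = c := by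
    rw [← IsLocalRing.maximalIdeal_height_eq_ringKrullDim]
    have h1 : (IsLocalRing.maximalIdeal A).map (Ideal.Quotient.mk (P.map (algebraMap R A))) =
        IsLocalRing.maximalIdeal (A ⧸ P.map (algebraMap R A)) :=
      IsLocalRing.map_maximalIdeal_of_surjective _ Ideal.Quotient.mk_surjective
    have h2 := relHeight_atPrime P Q Q h le_rfl
    rw [Localization.AtPrime.map_eq_maximalIdeal, hc] at h2
    rw [← h1]
    show ((relHeight (P.map (algebraMap R A)) (IsLocalRing.maximalIdeal A) : ℕ∞) : WithBot ℕ∞) = _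
    rw [h2]; rfl
  exact GrothLib.CanonMod.height_add_dim_quotient _ hPA.ne_top hg hdim hn

theorem height_Ici_eq (p : PrimeSpectrum R) (q : PrimeSpectrum R) (h : p ≤ q) :
    Order.height (⟨q, h⟩ : Set.Ici p) = relHeight p.asIdeal q.asIdeal := by
  haveI := GrothLib.CAux.map_mk_isPrime (s := p.asIdeal) (P := q.asIdeal) h
  let x : PrimeSpectrum (R ⧸ p.asIdeal) := ⟨q.asIdeal.map (Ideal.Quotient.mk p.asIdeal), inferInstance⟩
  let e₀ : (PrimeSpectrum.zeroLocus (R := R) (p.asIdeal : Set R)) ≃o Set.Ici p :=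
    { toFun := fun z => ⟨z.1, z.2⟩
      invFun := fun z => ⟨z.1, z.2⟩
      map_rel_iff' := Iff.rfl }
  have he : ((p.asIdeal.primeSpectrumQuotientOrderIsoZeroLocus).trans e₀) x = ⟨q, h⟩ := by
    refine Subtype.ext (PrimeSpectrum.ext ?_)
    exact comap_map_eq Ideal.Quotient.mk_surjective (by rw [Ideal.mk_ker]; exact h)
  rw [← he, Order.height_orderIso, ← PrimeSpectrum.height_eq_orderHeight]

theorem relCodim_le (I : Ideal R) (p q : PrimeSpectrum R) (h : p ≤ q) (hI : I ≤ q.asIdeal) :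
    SGA2.relCodim I p ≤ relHeight p.asIdeal q.asIdeal := by
  rw [← height_Ici_eq p q h]
  exact iInf_le (fun q : {q : PrimeSpectrum R // p ≤ q ∧ I ≤ q.asIdeal} =>
    Order.height (⟨q.1, q.2.1⟩ : Set.Ici p)) ⟨q, h, hI⟩

theorem exists_relCodim_eq (I : Ideal R) (p : PrimeSpectrum R) {c : ℕ} (hc : SGA2.relCodim I p = c) :
    ∃ q : PrimeSpectrum R, p ≤ q ∧ I ≤ q.asIdeal ∧ relHeight p.asIdeal q.asIdeal = c := by
  have hne : Nonempty {q : PrimeSpectrum R // p ≤ q ∧ I ≤ q.asIdeal} := by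
    by_contra h
    rw [not_nonempty_iff] at h
    rw [SGA2.relCodim, iInf_of_empty] at hc
    exact ENat.natCast_ne_top c hc.symm
  obtain ⟨⟨q, h1, h2⟩, hq⟩ := ENat.exists_eq_iInf
    (fun q : {q : PrimeSpectrum R // p ≤ q ∧ I ≤ q.asIdeal} => Order.height (⟨q.1, q.2.1⟩ : Set.Ici p))
  exact ⟨q, h1, h2, by rw [← height_Ici_eq p q h1]; exact hq.trans hc⟩

/-- Between `P ∉ V(I)` and `Q ∈ V(I)` there is a prime off `V(I)` of codimension one below `Q`. -/
theorem exists_covBy_avoiding [IsNoetherianRing R] (I P Q : Ideal R) [P.IsPrime] [Q.IsPrime] (h : P ≤ Q)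
    (hP : ¬ I ≤ P) (hQ : I ≤ Q) :
    ∃ P' : Ideal R, P'.IsPrime ∧ P ≤ P' ∧ P' ≤ Q ∧ ¬ I ≤ P' ∧ relHeight P' Q = 1 := by
  let s : Set (Ideal R) := {T | T.IsPrime ∧ P ≤ T ∧ T ≤ Q ∧ ¬ I ≤ T}
  obtain ⟨P', ⟨h1, h2, h3, h4⟩, hmax⟩ :=
    set_has_maximal_iff_noetherian.2 ‹_› s ⟨P, ‹_›, le_rfl, h, hP⟩
  haveI := h1
  refine ⟨P', h1, h2, h3, h4, ?_⟩
  have hne : P' ≠ Q := fun e => h4 (e ▸ hQ)
  refine le_antisymm ?_ (one_le_relHeight P' Q (lt_of_le_of_ne h3 hne))
  by_contra hlt
  rw [not_le] at hlt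
  obtain ⟨x, hxI, hxP⟩ := SetLike.not_le_iff_exists.1 h4
  haveI := GrothLib.CAux.map_mk_isPrime (s := P') (P := Q) h3
  -- primes minimal over `(x) + P'` are finitely many and avoidable
  let B := R ⧸ P'
  let mk := Ideal.Quotient.mk P'
  let xb : B := mk x
  have hfin := (Ideal.span {xb}).finite_minimalPrimes_of_isNoetherianRing B
  have hnot : ¬ (↑(Q.map mk) : Set B) ⊆ ⋃ T ∈ (↑hfin.toFinset : Set (Ideal B)), (T : Set B) := by
    intro hsub
    obtain ⟨T, hT, hle⟩ := (Ideal.subset_union_prime ⊥ ⊥ fun T hT _ _ =>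
      ((Set.Finite.mem_toFinset hfin).1 hT).isPrime).1 hsub
    have hT' := (Set.Finite.mem_toFinset hfin).1 hT
    haveI := hT'.isPrime
    have h5 : T.height ≤ 1 := Ideal.height_le_one_of_isPrincipal_of_mem_minimalPrimes (Ideal.span {xb}) T hT'
    exact absurd ((Ideal.height_mono hle).trans h5) (not_le.2 hlt)
  obtain ⟨y, hyQ, hy⟩ := Set.not_subset.1 hnot
  obtain ⟨T, hT, hTQ⟩ := Ideal.exists_minimalPrimes_le (I := Ideal.span {y}) (J := Q.map mk)
    ((Ideal.span_singleton_le_iff_mem _).2 hyQ)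
  haveI := hT.isPrime
  have hT1 : T.height ≤ 1 := Ideal.height_le_one_of_isPrincipal_of_mem_minimalPrimes (Ideal.span {y}) T hT
  have hyT : y ∈ T := hT.le (Ideal.mem_span_singleton_self y)
  have hTI : T.comap mk ∈ s → False := fun hs => by
    have hle : P' ≤ T.comap mk := fun a ha => by
      show mk a ∈ T
      rw [Ideal.Quotient.eq_zero_iff_mem.2 ha]; exact zero_mem T
    refine hmax _ hs (lt_of_le_of_ne hle fun e => ?_)
    have hy0 : y = 0 := by
      obtain ⟨a, rfl⟩ := Ideal.Quotient.mk_surjective y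
      exact Ideal.Quotient.eq_zero_iff_mem.2 (e ▸ (show a ∈ T.comap mk from hyT))
    obtain ⟨T₀, hT₀, -⟩ := Ideal.exists_minimalPrimes_le (I := Ideal.span {xb}) (J := Q.map mk)
      ((Ideal.span_singleton_le_iff_mem _).2 (Ideal.mem_map_of_mem mk (hQ hxI)))
    exact hy (Set.mem_biUnion ((Set.Finite.mem_toFinset hfin).2 hT₀) (hy0 ▸ zero_mem T₀))
  refine hTI ⟨inferInstance, ?_, ?_, fun hIT => ?_⟩
  · refine h2.trans fun a ha => ?_
    show mk a ∈ T
    rw [Ideal.Quotient.eq_zero_iff_mem.2 ha]; exact zero_mem T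
  · exact (Ideal.comap_mono hTQ).trans
      (comap_map_eq Ideal.Quotient.mk_surjective (by rw [Ideal.mk_ker]; exact h3)).le
  · -- `T` would be minimal over `x`
    have hxT : xb ∈ T := hIT hxI
    obtain ⟨T₀, hT₀, hle⟩ := Ideal.exists_minimalPrimes_le (I := Ideal.span {xb}) (J := T)
      ((Ideal.span_singleton_le_iff_mem _).2 hxT)
    haveI := hT₀.isPrime
    rcases eq_or_lt_of_le hle with rfl | hlt'
    · exact hy (Set.mem_biUnion ((Set.Finite.mem_toFinset hfin).2 hT₀) hyT)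
    · have h0 : (⊥ : Ideal B) < T₀ := bot_lt_iff_ne_bot.2 fun e => hxP
        (Ideal.Quotient.eq_zero_iff_mem.1 (by
          have : xb ∈ T₀ := hT₀.le (Ideal.mem_span_singleton_self xb)
          rwa [e, Ideal.mem_bot] at this))
      have h6 := Ideal.height_add_one_le_of_lt_of_isPrime hlt'
      have h7 := Ideal.height_add_one_le_of_lt_of_isPrime h0
      have h8 : T₀.height + 1 ≤ 1 := h6.trans hT1
      have h9 : (1 : ℕ∞) ≤ T₀.height := le_add_self.trans h7
      exact absurd ((add_le_add h9 le_rfl).trans h8) (by decide)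

end GrothLib.SGA2Fin
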