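import Groth.Agent.Lib.SGA2Fin.Stalk
import Groth.Agent.Lib.SGA2Fin.Primes
import Groth.Agent.Lib.SGA2Fin.Transfer

/-!
# The codimension one form of the finiteness hypothesis
-/

universe u

open CategoryTheory GrothLib.Faltings

namespace GrothLib.SGA2Fin

variable {R : Type u} [CommRing R] [IsRegularRing R]

/-- The stalk condition at all codimension one primes off `V(J)`. -/
def CodimOneVanish (J : Ideal R) (M : Type u) [AddCommGroup M] [Module R M] (i : ℕ) : Prop :=
  ∀ p : PrimeSpectrum R, ¬ J ≤ p.asIdeal → SGA2.relCodim J p = 1 → ∀ j : ℕ, j + 1 = i →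
    Subsingleton (LocCoh.H (IsLocalRing.maximalIdeal (Localization.AtPrime p.asIdeal)) j
      (LocalizedModule p.asIdeal.primeCompl M))

variable {J : Ideal R} {M : Type u} [AddCommGroup M] [Module R M] [Module.Finite R M] {i : ℕ}

/-- The dual modules have no point of height `i + s` of `V(J)` adherent to their support off `V(J)`. -/
theorem extKilled_of_codimOneVanish (h : CodimOneVanish J M i) (P Q : Ideal R) [P.IsPrime] [Q.IsPrime]
    (hPQ : P ≤ Q) (hP : ¬ J ≤ P) (hQ : J ≤ Q) {s : ℕ} (hg : Q.height = (i + s : ℕ)) :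
    ExtKilled P.primeCompl s (ModuleCat.of R M) := by
  obtain ⟨P', hP', hPP', hP'Q, hJ, hc⟩ := exists_covBy_avoiding J P Q hPQ hP hQ
  haveI := hP'
  obtain ⟨a, ha⟩ := ENat.ne_top_iff_exists.1 (Ideal.height_ne_top (I := P') hP'.ne_top)
  have hag := height_eq_add_relHeight P' Q hP'Q (c := 1) ha.symm (by exact_mod_cast hc) hg
  have hrc : SGA2.relCodim J ⟨P', hP'⟩ = 1 := by
    refine le_antisymm (hc ▸ relCodim_le J ⟨P', hP'⟩ ⟨Q, ‹_›⟩ hP'Q hQ) (le_iInf fun q => ?_)
    rw [height_Ici_eq]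
    exact one_le_relHeight P' q.1.asIdeal (lt_of_le_of_ne q.2.1 fun e => hJ (e ▸ q.2.2))
  obtain ⟨h1, h2⟩ := stalk_duality P' ha.symm (ModuleCat.of R M)
  refine ExtKilled.mono (S := P'.primeCompl) (S' := P.primeCompl) (fun x hx hxP => hx (hPP' hxP)) ?_
  rcases Nat.eq_zero_or_pos i with rfl | hi
  · exact h2 s (by omega)
  · exact (h1 (i - 1)).1 (h ⟨P', hP'⟩ hJ hrc (i - 1) (by omega)) s (by omega)

/-- The codimension one condition gives the shifted vanishing at every prime off `V(J)`. -/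
theorem subsingleton_stalk_of_codimOneVanish (h : CodimOneVanish J M i) (p : PrimeSpectrum R)
    (hp : ¬ J ≤ p.asIdeal) (c j : ℕ) (hc : SGA2.relCodim J p = c) (hj : j + c = i) :
    Subsingleton (LocCoh.H (IsLocalRing.maximalIdeal (Localization.AtPrime p.asIdeal)) j
      (LocalizedModule p.asIdeal.primeCompl M)) := by
  obtain ⟨a, ha⟩ := ENat.ne_top_iff_exists.1 (Ideal.height_ne_top (I := p.asIdeal) p.2.ne_top)
  obtain ⟨q, hpq, hJq, hcq⟩ := exists_relCodim_eq J p hc
  obtain ⟨g, hg⟩ := ENat.ne_top_iff_exists.1 (Ideal.height_ne_top (I := q.asIdeal) q.2.ne_top)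
  have hag := height_eq_add_relHeight p.asIdeal q.asIdeal hpq ha.symm hcq hg.symm
  refine ((stalk_duality p.asIdeal ha.symm (ModuleCat.of R M)).1 j).2 fun s hs => ?_
  exact extKilled_of_codimOneVanish h p.asIdeal q.asIdeal hpq hp hJq
    (by rw [← hg, show g = i + s by omega])

/-- Hypotheses over a surjective image give hypotheses over the ring. -/
theorem codimOneVanish_restrictScalars {A : Type u} [CommRing A] [IsNoetherianRing A] [Algebra R A]
    (hπ : Function.Surjective (algebraMap R A)) (I : Ideal A) (M : Type u) [AddCommGroup M] [Module A M]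
    [Module R M] [IsScalarTower R A M] [Module.Finite R M] (i : ℕ)
    (h : ∀ p : PrimeSpectrum A, ¬ I ≤ p.asIdeal → SGA2.relCodim I p = 1 → ∀ j : ℕ, j + 1 = i →
      Subsingleton (LocCoh.H (IsLocalRing.maximalIdeal (Localization.AtPrime p.asIdeal)) j
        (LocalizedModule p.asIdeal.primeCompl M))) :
    CodimOneVanish (I.comap (algebraMap R A)) M i := by
  intro P hP hc j hj
  by_cases hker : RingHom.ker (algebraMap R A) ≤ P.asIdeal
  · haveI := Ideal.map_isPrime_of_surjective hπ hker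
    let p : PrimeSpectrum A := ⟨P.asIdeal.map (algebraMap R A), inferInstance⟩
    haveI : p.asIdeal.IsPrime := p.2
    have hp : PrimeSpectrum.comap (algebraMap R A) p = P := PrimeSpectrum.ext (comap_map_eq hπ hker)
    refine (subsingleton_stalk_iff hπ M p.asIdeal P.asIdeal (comap_map_eq hπ hker) j).2
      (h p (fun hIp => hP ((Ideal.comap_mono hIp).trans (comap_map_eq hπ hker).le)) ?_ j hj)
    rw [relCodim_comap_eq hπ I p, hp, hc]
  · obtain ⟨x, hx, hxP⟩ := SetLike.not_le_iff_exists.1 hker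
    obtain ⟨a, ha⟩ := ENat.ne_top_iff_exists.1 (Ideal.height_ne_top (I := P.asIdeal) P.2.ne_top)
    have hM : ∀ m : M, x • m = 0 := fun m => by
      rw [← algebraMap_smul A x m, RingHom.mem_ker.1 hx, zero_smul]
    refine ((stalk_duality P.asIdeal ha.symm (ModuleCat.of R M)).1 j).2 fun s _ e => ⟨⟨x, hxP⟩, ?_⟩
    have h0 : x • 𝟙 (ModuleCat.of R M) = 0 := ModuleCat.hom_ext (LinearMap.ext hM)
    show x • e = 0
    rw [GrothLib.LC.smul_eq_mk₀_comp, h0, Abelian.Ext.mk₀_zero, Abelian.Ext.zero_comp]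

end GrothLib.SGA2Fin
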