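import Groth.Agent.Lib.ExtCech.Basic
import Mathlib.Algebra.Homology.DerivedCategory.Linear
import Mathlib.Algebra.Homology.DerivedCategory.SingleTriangle
import Mathlib.Algebra.Homology.DerivedCategory.Ext.Linear
import Mathlib.Algebra.Category.ModuleCat.Ext.Finite
import Mathlib.CategoryTheory.Linear.LinearFunctor

/-!
# Maps from a module into an extended Čech complex in the derived category
-/

universe u

open CategoryTheory Limits Pretriangulated DerCA

namespace GrothLib.SGA2Fin

attribute [local instance] HasDerivedCategory.standard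

variable {R : Type u} [CommRing R]

/-- A cochain complex in the derived category. -/
noncomputable abbrev QQ (X : DRing.Cx R) : DerivedCategory (ModuleCat.{u} R) :=
  DerivedCategory.Qh.obj ((HomotopyCategory.quotient _ _).obj X)

/-- The map induced by a map of complexes. -/
noncomputable abbrev QQmap {X Y : DRing.Cx R} (f : X ⟶ Y) : QQ X ⟶ QQ Y :=
  DerivedCategory.Qh.map ((HomotopyCategory.quotient _ _).map f)

/-- A module in degree zero. -/
noncomputable abbrev S0 : ModuleCat.{u} R ⥤ DerivedCategory (ModuleCat.{u} R) :=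
  DerivedCategory.singleFunctor (ModuleCat.{u} R) 0

/-- `Hom_D(N, L[j])`. -/
noncomputable abbrev THom (N : ModuleCat.{u} R) (L : DRing.Cx R) (j : ℤ) :=
  S0.obj N ⟶ (QQ L)⟦j⟧

/-- Precomposition. -/
noncomputable def pre {N N' : ModuleCat.{u} R} (g : N ⟶ N') (L : DRing.Cx R) (j : ℤ) :
    THom N' L j →ₗ[R] THom N L j where
  toFun α := S0.map g ≫ α
  map_add' α β := Preadditive.comp_add _ _ _ _ α β
  map_smul' r α := Linear.comp_smul _ _ _ _ r α

theorem smul_eq_zero_of_killed {N : ModuleCat.{u} R} {L : DRing.Cx R} {j : ℤ} {x : R}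
    (hx : ∀ v : N, x • v = 0) (α : THom N L j) : x • α = 0 := by
  have h : x • 𝟙 N = 0 := ModuleCat.hom_ext (LinearMap.ext hx)
  have h' : x • 𝟙 (S0.obj N) = 0 := by
    rw [← S0.map_id, ← Functor.map_smul, h, Functor.map_zero]
  rw [← Category.id_comp α, ← Linear.smul_comp, h', zero_comp]

theorem pre_smul {N : ModuleCat.{u} R} {L : DRing.Cx R} {j : ℤ} (x : R) (α : THom N L j) :
    S0.map (x • 𝟙 N) ≫ α = x • α := by
  rw [Functor.map_smul, S0.map_id, Linear.smul_comp, Category.id_comp]

theorem exists_of_pre_eq_zero {S : ShortComplex (ModuleCat.{u} R)} (hS : S.ShortExact) {L : DRing.Cx R} {j : ℤ}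
    (α : THom S.X₂ L j) (h : S0.map S.f ≫ α = 0) : ∃ β : THom S.X₃ L j, α = S0.map S.g ≫ β :=
  Triangle.yoneda_exact₂ _ hS.singleTriangle_distinguished α h

theorem subsingleton_middle {S : ShortComplex (ModuleCat.{u} R)} (hS : S.ShortExact) {L : DRing.Cx R} {j : ℤ}
    (h1 : Subsingleton (THom S.X₁ L j)) (h3 : Subsingleton (THom S.X₃ L j)) :
    Subsingleton (THom S.X₂ L j) := by
  refine subsingleton_of_forall_eq 0 fun α => ?_
  obtain ⟨β, rfl⟩ := exists_of_pre_eq_zero hS α (h1.elim _ _)
  rw [h3.elim β 0, comp_zero]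

theorem finite_middle [IsNoetherianRing R] {S : ShortComplex (ModuleCat.{u} R)} (hS : S.ShortExact)
    {L : DRing.Cx R} {j : ℤ} (h1 : Module.Finite R (THom S.X₁ L j)) (h3 : Module.Finite R (THom S.X₃ L j)) :
    Module.Finite R (THom S.X₂ L j) := by
  have hex : Function.Exact (pre S.g L j) (pre S.f L j) := by
    intro α
    constructor
    · intro h
      obtain ⟨β, hβ⟩ := exists_of_pre_eq_zero hS α h
      exact ⟨β, hβ.symm⟩
    · rintro ⟨β, rfl⟩
      show S0.map S.f ≫ (S0.map S.g ≫ β) = 0
      rw [← Category.assoc, ← Functor.map_comp, S.zero, Functor.map_zero, zero_comp]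
  haveI : IsNoetherian R (THom S.X₁ L j) := isNoetherian_of_isNoetherianRing_of_finite R _
  haveI : IsNoetherian R (THom S.X₃ L j) := isNoetherian_of_isNoetherianRing_of_finite R _
  haveI : IsNoetherian R (THom S.X₂ L j) := isNoetherian_of_range_eq_ker (pre S.g L j) (pre S.f L j)
    (LinearMap.exact_iff.1 hex).symm
  infer_instance

theorem subsingleton_of_isIso_smul {N : ModuleCat.{u} R} {Y : DRing.Cx R} {j : ℤ} {x : R} {e : ℕ}
    (hY : IsIso (x • 𝟙 Y)) (hN : ∀ v : N, x ^ e • v = 0) : Subsingleton (THom N Y j) := by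
  have hiso : IsIso ((QQmap (x • 𝟙 Y))⟦j⟧') := inferInstance
  have key : ∀ (k : ℕ) (α : THom N Y j), x ^ k • α = 0 → α = 0 := by
    intro k
    induction k with
    | zero => intro α h; rwa [pow_zero, one_smul] at h
    | succ k ih =>
      intro α h
      refine ih α ?_
      rw [← cancel_mono ((QQmap (x • 𝟙 Y))⟦j⟧'), zero_comp]
      rw [QQmap, Functor.map_smul, Functor.map_smul, Functor.map_smul, CategoryTheory.Functor.map_id,
        CategoryTheory.Functor.map_id, CategoryTheory.Functor.map_id, Linear.comp_smul, Category.comp_id,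
        smul_smul, ← pow_succ']
      exact h
  exact subsingleton_of_forall_eq 0 fun α => key e α (smul_eq_zero_of_killed hN α)

theorem subsingleton_THom_iso {N : ModuleCat.{u} R} {X Y : DerivedCategory (ModuleCat.{u} R)} (e : X ≅ Y)
    (h : Subsingleton (S0.obj N ⟶ X)) : Subsingleton (S0.obj N ⟶ Y) :=
  (Linear.homCongr R (Iso.refl (S0.obj N)) e).symm.toEquiv.subsingleton

/-- Projecting from a homotopy fibre is bijective if the third term receives no maps. -/
theorem bijective_comp_fst {N : ModuleCat.{u} R} {K L : DRing.Cx R} (φ : K ⟶ L) (j : ℤ)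
    (h0 : ∀ i, Subsingleton (THom N L i)) :
    Function.Bijective
      (fun α : THom N (CochainComplex.mappingCocone φ) j => α ≫ (QQmap (CochainComplex.mappingCocone.fst φ))⟦j⟧') := by
  have hT := Triangle.shift_distinguished _
    (DerivedCategory.Qh.map_distinguished _ (GrothLib.ExtCech.cocone_distinguished φ)) j
  set T := (CategoryTheory.shiftFunctor (Triangle (DerivedCategory (ModuleCat.{u} R))) j).obj
    (DerivedCategory.Qh.mapTriangle.obj ((GrothLib.ExtCech.q (R := R)).mapTriangle.obj
      (CochainComplex.mappingCocone.triangle φ)))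
  have hm : T.mor₁ = (j.negOnePow : ℤ) • (QQmap (CochainComplex.mappingCocone.fst φ))⟦j⟧' := rfl
  have hbij : Function.Bijective (fun α : S0.obj N ⟶ T.obj₁ => α ≫ T.mor₁) := by
    constructor
    · intro a b hab
      have h : (a - b) ≫ T.mor₁ = 0 := by rw [Preadditive.sub_comp]; exact sub_eq_zero.2 hab
      obtain ⟨c, hc⟩ := Triangle.coyoneda_exact₂ _ (inv_rot_of_distTriang _ hT) (a - b) h
      have hs : Subsingleton (S0.obj N ⟶ T.invRotate.obj₁) :=
        subsingleton_THom_iso ((shiftFunctorAdd' (DerivedCategory (ModuleCat.{u} R)) j (-1) (j - 1)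
          (by omega)).app (QQ L)) (h0 (j - 1))
      rw [hs.elim c 0, zero_comp] at hc
      exact sub_eq_zero.1 hc
    · intro b
      obtain ⟨a, ha⟩ := Triangle.coyoneda_exact₂ _ hT b ((h0 j).elim _ _)
      exact ⟨a, ha.symm⟩
  refine ⟨fun a b hab => hbij.1 ?_, fun b => ?_⟩
  · show a ≫ T.mor₁ = b ≫ T.mor₁
    rw [hm]
    exact ((Preadditive.comp_zsmul _ _ _).trans (congrArg _ hab)).trans
      (Preadditive.comp_zsmul _ _ _).symm
  · obtain ⟨a, ha⟩ := hbij.2 ((j.negOnePow : ℤ) • b)
    refine ⟨a, smul_left_cancel j.negOnePow ?_⟩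
    rw [Units.smul_def, Units.smul_def]
    refine Eq.trans ?_ ha
    show _ = a ≫ T.mor₁
    rw [hm]
    exact (Preadditive.comp_zsmul _ _ _).symm

/-- Maps into the degree zero complex of a module are `Ext`. -/
noncomputable def extTHom (N M : ModuleCat.{u} R) (j : ℕ) :
    Abelian.Ext N M j ≃ₗ[R]
      THom N ((HomologicalComplex.single (ModuleCat.{u} R) (ComplexShape.up ℤ) 0).obj M) (j : ℤ) :=
  Abelian.Ext.homLinearEquiv

end GrothLib.SGA2Fin
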