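import Groth.Agent.Lib.SGA2Fin.Derived
import Mathlib.Algebra.Homology.DerivedCategory.TStructure
import Mathlib.Algebra.Homology.DerivedCategory.HomologySequence
import Mathlib.Algebra.Homology.DerivedCategory.FullyFaithful
import Mathlib.CategoryTheory.Triangulated.TStructure.TruncLTGE

/-!
# Dévissage of maps out of a bounded object along its homology
-/

universe u

open CategoryTheory Limits Pretriangulated DerCA DerivedCategory.TStructure

namespace GrothLib.SGA2Fin

attribute [local instance] HasDerivedCategory.standard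

variable {R : Type u} [CommRing R] {L : DRing.Cx R}

/-- Maps out of a shifted module are `THom`. -/
theorem nonempty_single_hom_equiv (N : ModuleCat.{u} R) (k i : ℤ) :
    Nonempty (THom N L (i + k) ≃ₗ[R]
      ((DerivedCategory.singleFunctor (ModuleCat.{u} R) k).obj N ⟶ (QQ L)⟦i⟧)) := by
  let D := DerivedCategory (ModuleCat.{u} R)
  let s : (S0.obj N)⟦-k⟧ ≅ (DerivedCategory.singleFunctor (ModuleCat.{u} R) k).obj N :=
    ((DerivedCategory.singleFunctors (ModuleCat.{u} R)).shiftIso (-k) k 0 (by omega)).app N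
  let e1 : ((S0.obj N)⟦-k⟧ ⟶ (QQ L)⟦i⟧) ≃ₗ[R] (((S0.obj N)⟦-k⟧)⟦k⟧ ⟶ ((QQ L)⟦i⟧)⟦k⟧) :=
    LinearEquiv.ofBijective (Functor.mapLinearMap R (shiftFunctor D k))
      ⟨fun a b h => (shiftFunctor D k).map_injective h, fun b => (shiftFunctor D k).map_surjective b⟩
  exact ⟨(((Linear.homCongr R s.symm (Iso.refl _)).trans e1).trans
    (Linear.homCongr R ((shiftFunctorCompIsoId D (-k) k (by omega)).app (S0.obj N))
      ((shiftFunctorAdd' D i k (i + k) rfl).symm.app (QQ L)))).symm⟩

theorem finite_hom_of_concentrated (k i : ℤ) (X : DerivedCategory (ModuleCat.{u} R))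
    [X.IsGE k] [X.IsLE k]
    (h : Module.Finite R (THom ((DerivedCategory.homologyFunctor _ k).obj X) L (i + k))) :
    Module.Finite R (X ⟶ (QQ L)⟦i⟧) := by
  obtain ⟨N, ⟨e⟩⟩ := DerivedCategory.exists_iso_singleFunctor_obj_of_isGE_of_isLE X k
  let eN : (DerivedCategory.homologyFunctor _ k).obj X ≅ N :=
    (DerivedCategory.homologyFunctor _ k).mapIso e ≪≫
      (DerivedCategory.singleFunctorCompHomologyFunctorIso _ k).app N
  obtain ⟨g⟩ := nonempty_single_hom_equiv (L := L) N k i
  have := h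
  exact Module.Finite.equiv (((Linear.homCongr R (S0.mapIso eN) (Iso.refl _)).trans g).trans
    (Linear.homCongr R e.symm (Iso.refl _)))

theorem finite_hom_middle [IsNoetherianRing R] (T : Triangle (DerivedCategory (ModuleCat.{u} R)))
    (hT : T ∈ distTriang _) (i : ℤ) (h1 : Module.Finite R (T.obj₁ ⟶ (QQ L)⟦i⟧))
    (h3 : Module.Finite R (T.obj₃ ⟶ (QQ L)⟦i⟧)) : Module.Finite R (T.obj₂ ⟶ (QQ L)⟦i⟧) := by
  let f : (T.obj₃ ⟶ (QQ L)⟦i⟧) →ₗ[R] (T.obj₂ ⟶ (QQ L)⟦i⟧) := Linear.leftComp R _ T.mor₂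
  let g : (T.obj₂ ⟶ (QQ L)⟦i⟧) →ₗ[R] (T.obj₁ ⟶ (QQ L)⟦i⟧) := Linear.leftComp R _ T.mor₁
  have hex : Function.Exact f g := fun α => ⟨fun h => by
      obtain ⟨β, hβ⟩ := Triangle.yoneda_exact₂ T hT α h
      exact ⟨β, hβ.symm⟩,
    by
      rintro ⟨β, rfl⟩
      show T.mor₁ ≫ T.mor₂ ≫ β = 0
      rw [← Category.assoc, comp_distTriang_mor_zero₁₂ _ hT, zero_comp]⟩
  have := isNoetherian_of_isNoetherianRing_of_finite R (T.obj₁ ⟶ (QQ L)⟦i⟧)
  have := isNoetherian_of_isNoetherianRing_of_finite R (T.obj₃ ⟶ (QQ L)⟦i⟧)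
  have : IsNoetherian R (T.obj₂ ⟶ (QQ L)⟦i⟧) :=
    isNoetherian_of_range_eq_ker f g (LinearMap.exact_iff.1 hex).symm
  infer_instance

/-- Dévissage along the homology. -/
theorem finite_hom_of_homology [IsNoetherianRing R] (i : ℤ) : ∀ (b : ℕ) (X : DerivedCategory (ModuleCat.{u} R)),
    X.IsGE 0 → X.IsLE b →
    (∀ n : ℕ, n ≤ b → Module.Finite R (THom ((DerivedCategory.homologyFunctor _ (n : ℤ)).obj X) L (i + n))) →
    Module.Finite R (X ⟶ (QQ L)⟦i⟧) := by
  intro b
  induction b with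
  | zero =>
    intro X hge hle h
    exact @finite_hom_of_concentrated _ _ _ ((0 : ℕ) : ℤ) i X hge hle (h 0 le_rfl)
  | succ b ih =>
    intro X hge hle h
    set T := (t.triangleLTGE ((b : ℤ) + 1)).obj X
    have hT : T ∈ distTriang _ := t.triangleLTGE_distinguished _ X
    have hle1 : T.obj₁.IsLE (b : ℤ) := t.isLE_truncLT_obj X ((b : ℤ) + 1) b
    have hge3 : T.obj₃.IsGE ((b : ℤ) + 1) := t.isGE_truncGE_obj X ((b : ℤ) + 1) _
    have i1 : ∀ n : ℤ, n ≤ b → IsIso ((DerivedCategory.homologyFunctor _ n).map T.mor₁) := by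
      intro n hn
      have : Mono ((DerivedCategory.homologyFunctor _ n).map T.mor₁) :=
        (DerivedCategory.HomologySequence.mono_homologyMap_mor₁_iff T hT (n - 1) n (by omega)).2
          ((T.obj₃.isZero_of_isGE ((b : ℤ) + 1) (n - 1) (by omega)).eq_of_src _ _)
      have : Epi ((DerivedCategory.homologyFunctor _ n).map T.mor₁) :=
        (DerivedCategory.HomologySequence.epi_homologyMap_mor₁_iff T hT n).2
          ((T.obj₃.isZero_of_isGE ((b : ℤ) + 1) n (by omega)).eq_of_tgt _ _)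
      exact isIso_of_mono_of_epi _
    have i3 : ∀ n : ℤ, (b : ℤ) < n → IsIso ((DerivedCategory.homologyFunctor _ n).map T.mor₂) := by
      intro n hn
      have : Mono ((DerivedCategory.homologyFunctor _ n).map T.mor₂) :=
        (DerivedCategory.HomologySequence.mono_homologyMap_mor₂_iff T hT n).2
          ((T.obj₁.isZero_of_isLE (b : ℤ) n hn).eq_of_src _ _)
      have : Epi ((DerivedCategory.homologyFunctor _ n).map T.mor₂) :=
        (DerivedCategory.HomologySequence.epi_homologyMap_mor₂_iff T hT n (n + 1) rfl).2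
          ((T.obj₁.isZero_of_isLE (b : ℤ) (n + 1) (by omega)).eq_of_tgt _ _)
      exact isIso_of_mono_of_epi _
    refine finite_hom_middle T hT i ?_ ?_
    · refine ih T.obj₁ ((DerivedCategory.isGE_iff _ _).2 fun n hn => ?_) hle1 fun n hn => ?_
      · have := i1 n (by omega)
        have hz : IsZero ((DerivedCategory.homologyFunctor _ n).obj T.obj₂) := X.isZero_of_isGE 0 n hn
        exact hz.of_iso (asIso ((DerivedCategory.homologyFunctor _ n).map T.mor₁))
      · have := i1 n (by omega)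
        have : Module.Finite R (THom ((DerivedCategory.homologyFunctor _ (n : ℤ)).obj T.obj₂) L (i + n)) :=
          h n (by omega)
        exact Module.Finite.equiv (Linear.homCongr R
          (S0.mapIso (asIso ((DerivedCategory.homologyFunctor _ (n : ℤ)).map T.mor₁)).symm) (Iso.refl _))
    · have hle3 : T.obj₃.IsLE ((b : ℤ) + 1) := (DerivedCategory.isLE_iff _ _).2 fun n hn => by
        have := i3 n (by omega)
        exact (X.isZero_of_isLE ((b + 1 : ℕ) : ℤ) n (by omega)).of_iso
          (asIso ((DerivedCategory.homologyFunctor _ n).map T.mor₂)).symm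
      refine @finite_hom_of_concentrated _ _ _ ((b : ℤ) + 1) i T.obj₃ hge3 hle3 ?_
      have := i3 ((b : ℤ) + 1) (by omega)
      have : Module.Finite R (THom ((DerivedCategory.homologyFunctor _ ((b : ℤ) + 1)).obj T.obj₂) L
          (i + ((b : ℤ) + 1))) := h (b + 1) le_rfl
      exact Module.Finite.equiv (Linear.homCongr R
        (S0.mapIso (asIso ((DerivedCategory.homologyFunctor _ ((b : ℤ) + 1)).map T.mor₂))) (Iso.refl _))

end GrothLib.SGA2Fin
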