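import Groth.Agent.Lib.SGA2Fin.Resolution
import Groth.Agent.Lib.SGA2Fin.Criterion
import Groth.Agent.Lib.LC.Compare
import Groth.Prelude.Def_DerCA
import Mathlib.Algebra.Homology.HomotopyCategory.KProjective
import Mathlib.Algebra.Homology.ShortComplex.ModuleCat
import Mathlib.CategoryTheory.Abelian.Projective.Ext

/-!
# The dual complex of a resolution by finite projectives
-/

universe u

open CategoryTheory Limits Abelian

namespace GrothLib.SGA2Fin

variable {R : Type u} [CommRing R]

/-- A chain complex on `ℕ`, indexed by `ℤ`. -/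
noncomputable def Pz (K : ChainComplex (ModuleCat.{u} R) ℕ) : ℤ → ModuleCat.{u} R
  | Int.ofNat n => K.X n
  | Int.negSucc _ => ModuleCat.of R PUnit

/-- The differentials. -/
noncomputable def Dz (K : ChainComplex (ModuleCat.{u} R) ℕ) : ∀ t : ℤ, Pz K (t + 1) ⟶ Pz K t
  | Int.ofNat n => K.d (n + 1) n
  | Int.negSucc _ => 0

/-- The functionals on a module. -/
abbrev dualM (P : ModuleCat.{u} R) : ModuleCat.{u} R := ModuleCat.of R (P ⟶ ModuleCat.of R R)

theorem comp_Dz (K : ChainComplex (ModuleCat.{u} R) ℕ) : ∀ t : ℤ, Dz K (t + 1) ≫ Dz K t = 0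
  | Int.ofNat n => K.d_comp_d (n + 2) (n + 1) n
  | Int.negSucc _ => comp_zero

/-- The complex of functionals. -/
noncomputable def dualCx (K : ChainComplex (ModuleCat.{u} R) ℕ) : DRing.Cx R :=
  CochainComplex.of (fun t => dualM (Pz K t))
    (fun t => ModuleCat.ofHom (Linear.leftComp R (ModuleCat.of R R) (Dz K t)))
    (fun t => ModuleCat.hom_ext (LinearMap.ext fun ξ => by
      show Dz K (t + 1) ≫ Dz K t ≫ ξ = 0
      rw [← Category.assoc, comp_Dz, zero_comp]))

theorem dualCx_d_apply (K : ChainComplex (ModuleCat.{u} R) ℕ) (t : ℤ) (ξ : Pz K t ⟶ ModuleCat.of R R) :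
    ((dualCx K).d t (t + 1)).hom ξ = Dz K t ≫ ξ := by
  unfold dualCx
  simp only [CochainComplex.of_d]
  rfl

theorem isZero_dualM {P : ModuleCat.{u} R} (h : IsZero P) : IsZero (dualM P) :=
  @ModuleCat.isZero_of_subsingleton _ _ _ ⟨fun a b => h.eq_of_src a b⟩

theorem isZero_Pz_negSucc (K : ChainComplex (ModuleCat.{u} R) ℕ) (k : ℕ) :
    IsZero (Pz K (Int.negSucc k)) :=
  @ModuleCat.isZero_of_subsingleton _ _ (ModuleCat.of R PUnit) (inferInstanceAs (Subsingleton PUnit))

instance (K : ChainComplex (ModuleCat.{u} R) ℕ) : (dualCx K).IsStrictlyGE 0 :=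
  (CochainComplex.isStrictlyGE_iff _ _).2 fun t ht => by
    rcases t with n | k
    · exact absurd ht (by simp)
    · exact isZero_dualM (isZero_Pz_negSucc K k)

theorem finite_projective_dualM (P : ModuleCat.{u} R) [Module.Finite R P] [Module.Projective R P] :
    Module.Finite R (dualM P) ∧ Module.Projective R (dualM P) := by
  obtain ⟨n, f, hf⟩ := Module.Finite.exists_fin' R P
  obtain ⟨g, hg⟩ := Module.projective_lifting_property f LinearMap.id hf
  let A := ModuleCat.of R (Fin n → R)
  let i : dualM P →ₗ[R] dualM A := Linear.leftComp R _ (ModuleCat.ofHom f : A ⟶ P)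
  let s : dualM A →ₗ[R] dualM P := Linear.leftComp R _ (ModuleCat.ofHom g : P ⟶ A)
  have hsi : s.comp i = LinearMap.id := LinearMap.ext fun ξ => by
    show ModuleCat.ofHom g ≫ ModuleCat.ofHom f ≫ ξ = ξ
    rw [← Category.assoc, ← ModuleCat.ofHom_comp, hg]
    exact Category.id_comp ξ
  let e : dualM A ≃ₗ[R] ((Fin n → R) →ₗ[R] R) := ModuleCat.homLinearEquiv
  have : Module.Finite R (dualM A) := Module.Finite.equiv e.symm
  have : Module.Free R (dualM A) := Module.Free.of_equiv e.symm
  exact ⟨Module.Finite.of_surjective s fun ξ => ⟨i ξ, LinearMap.congr_fun hsi ξ⟩,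
    Module.Projective.of_split i s hsi⟩

section Res

variable [IsNoetherianRing R] (M : ModuleCat.{u} R) [Module.Finite R M]

theorem finite_projective_Pz : ∀ t : ℤ,
    Module.Finite R (Pz (res M).complex t) ∧ Module.Projective R (Pz (res M).complex t)
  | Int.ofNat n => ⟨finite_res M n, projective_res M n⟩
  | Int.negSucc _ => ⟨inferInstanceAs (Module.Finite R PUnit),
      inferInstanceAs (Module.Projective R PUnit)⟩

theorem finite_projective_dualCx (t : ℤ) :
    Module.Finite R ((dualCx (res M).complex).X t) ∧ Module.Projective R ((dualCx (res M).complex).X t) :=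
  have := (finite_projective_Pz M t).1
  have := (finite_projective_Pz M t).2
  finite_projective_dualM _

theorem isStrictlyLE_dualCx {b : ℕ} (hb : ∀ m, b < m → IsZero ((res M).complex.X m)) :
    (dualCx (res M).complex).IsStrictlyLE b :=
  (CochainComplex.isStrictlyLE_iff _ _).2 fun t ht => by
    rcases t with n | k
    · exact isZero_dualM (hb n (Int.ofNat_lt.1 ht))
    · exact absurd ht (by omega)

theorem isKProjective_dualCx {b : ℕ} (hb : ∀ m, b < m → IsZero ((res M).complex.X m)) :
    (dualCx (res M).complex).IsKProjective := by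
  have := isStrictlyLE_dualCx M hb
  have : ∀ t, Projective ((dualCx (res M).complex).X t) := fun t =>
    (IsProjective.iff_projective _).1 (finite_projective_dualCx M t).2
  exact CochainComplex.isKProjective_of_projective _ (b : ℤ)

theorem finite_homology_dualCx (t : ℤ) : Module.Finite R ((dualCx (res M).complex).homology t) := by
  have := (finite_projective_dualCx M t).1
  have := isNoetherian_of_isNoetherianRing_of_finite R ((dualCx (res M).complex).X t)
  have : Module.Finite R ((dualCx (res M).complex).cycles t) := by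
    refine Module.Finite.of_injective ((dualCx (res M).complex).iCycles t).hom ?_
    exact (ModuleCat.mono_iff_injective _).1 inferInstance
  exact Module.Finite.of_surjective ((dualCx (res M).complex).homologyπ t).hom
    ((ModuleCat.epi_iff_surjective _).1 inferInstance)

/-- A cocycle whose `Ext` class vanishes is a coboundary. -/
theorem exists_eq_of_extMk_eq_zero (n : ℕ) (ξ : (res M).complex.X n ⟶ ModuleCat.of R R)
    (hξ : (res M).complex.d (n + 1) n ≫ ξ = 0) (h : (res M).extMk ξ (n + 1) rfl hξ = 0) :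
    ∃ η : Pz (res M).complex ((n : ℤ) - 1) ⟶ ModuleCat.of R R,
      ((dualCx (res M).complex).d ((n : ℤ) - 1) n).hom η = ξ := by
  rcases n with _ | p
  · refine ⟨0, ?_⟩
    rw [← (res M).extEquivCohomologyClass.apply_eq_iff_eq, ProjectiveResolution.extEquivCohomologyClass_extMk,
      ProjectiveResolution.extEquivCohomologyClass_zero,
      CochainComplex.HomComplex.CohomologyClass.mk_eq_zero_iff,
      CochainComplex.HomComplex.Cocycle.toSingleMk_mem_coboundaries_iff _ _ _ _ _ (1 : ℤ) (by simp)] at h
    obtain ⟨g, hg⟩ := h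
    refine (map_zero _).trans ?_
    have hz : IsZero ((res M).cochainComplex.X 1) := CochainComplex.isZero_of_isStrictlyLE _ 0 1 (by omega)
    rw [hz.eq_of_src g 0, comp_zero] at hg
    exact ((cancel_epi ((res M).cochainComplexXIso _ 0 _).hom).1 (hg.symm.trans comp_zero.symm)).symm
  · obtain ⟨g, hg⟩ := ((res M).extMk_eq_zero_iff ξ (p + 1 + 1) rfl hξ p rfl).1 h
    have e : (p : ℤ) = ((p + 1 : ℕ) : ℤ) - 1 := by omega
    rw [← e]
    exact ⟨g, (dualCx_d_apply (res M).complex (Int.ofNat p) g).trans hg⟩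

/-- The homology of the dual complex is killed wherever `Ext` is. -/
theorem exists_smul_homology_eq_zero (n : ℕ) {S : Submonoid R} (hS : ExtKilled S n M)
    (x : (dualCx (res M).complex).homology (n : ℤ)) : ∃ σ : S, (σ : R) • x = 0 := by
  let C := dualCx (res M).complex
  obtain ⟨z, rfl⟩ := (ModuleCat.epi_iff_surjective (C.homologyπ (n : ℤ))).1 inferInstance x
  let ξ : (res M).complex.X n ⟶ ModuleCat.of R R := (C.iCycles (n : ℤ)).hom z
  have hξ : (res M).complex.d (n + 1) n ≫ ξ = 0 := by
    refine (dualCx_d_apply (res M).complex (Int.ofNat n) ξ).symm.trans ?_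
    exact congrArg (fun k => k.hom z) (C.iCycles_d (n : ℤ) ((n : ℤ) + 1))
  obtain ⟨σ, hσ⟩ := hS ((res M).extMk ξ (n + 1) rfl hξ)
  refine ⟨σ, ?_⟩
  rw [GrothLib.LC.smul_extMk] at hσ
  obtain ⟨η, hη⟩ := exists_eq_of_extMk_eq_zero M n _ _ hσ
  have hz : (σ : R) • z = (C.toCycles ((n : ℤ) - 1) (n : ℤ)).hom η := by
    refine (ModuleCat.mono_iff_injective _).1 (inferInstance : Mono (C.iCycles (n : ℤ))) ?_
    rw [map_smul]
    exact hη.symm.trans (congrArg (fun k => k.hom η) (C.toCycles_i ((n : ℤ) - 1) (n : ℤ))).symm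
  rw [← map_smul, hz]
  exact congrArg (fun k => k.hom η) (C.toCycles_comp_homologyπ ((n : ℤ) - 1) (n : ℤ))

end Res

end GrothLib.SGA2Fin
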