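import Groth.Agent.Lib.SGA2Fin.Torsion
import Groth.Agent.Lib.SGA2Fin.Criterion
import Mathlib.RingTheory.Ideal.AssociatedPrime.Finiteness

/-!
# Finiteness and vanishing of `Hom_D(N, Čech[j])`
-/

universe u

open CategoryTheory Limits DerCA Abelian

namespace GrothLib.SGA2Fin

attribute [local instance] HasDerivedCategory.standard

section General

variable {R : Type u} [CommRing R]

theorem isIso_smul_locCx (f : R) (K : DRing.Cx R) :
    IsIso (f • 𝟙 ((locCx (Submonoid.powers f)).obj K)) := by
  haveI : ∀ i, IsIso ((f • 𝟙 ((locCx (Submonoid.powers f)).obj K)).f i) := fun i => by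
    refine (ConcreteCategory.isIso_iff_bijective _).2 ?_
    exact (Module.End.isUnit_iff _).1 (IsLocalizedModule.map_units
      (LocalizedModule.mkLinearMap (Submonoid.powers f) (K.X i)) ⟨f, Submonoid.mem_powers f⟩)
  exact HomologicalComplex.Hom.isIso_of_components _

theorem acyclic_locCx_extCech (M : ModuleCat.{u} R) (fs : List R) {f : R} (hf : f ∈ fs) :
    ((locCx (Submonoid.powers f)).obj (extCech M fs)).Acyclic := fun n => by
  haveI := GrothLib.ExtCech.isLocalizedModule_homologyMap (Submonoid.powers f) (extCech M fs) n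
  rw [HomologicalComplex.exactAt_iff_isZero_homology, ModuleCat.isZero_iff_subsingleton]
  refine subsingleton_of_forall_eq 0 fun a => ?_
  obtain ⟨⟨x, s⟩, hx⟩ := IsLocalizedModule.surj (Submonoid.powers f)
    (HomologicalComplex.homologyMap (locCxUnit (Submonoid.powers f) (extCech M fs)) n).hom a
  obtain ⟨c, hc⟩ := GrothLib.ExtCech.exists_pow_smul_eq_zero fs M n x f hf
  refine IsLocalizedModule.smul_injective
    (HomologicalComplex.homologyMap (locCxUnit (Submonoid.powers f) (extCech M fs)) n).hom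
    (s * ⟨f ^ c, c, rfl⟩ : Submonoid.powers f) ?_
  show ((s : R) * f ^ c) • a = ((s : R) * f ^ c) • (0 : _)
  rw [smul_zero, mul_comm, mul_smul]
  exact (congrArg (f ^ c • ·) hx).trans (by rw [← map_smul, hc, map_zero])

variable {N : ModuleCat.{u} R}

/-- For a module killed by powers of the `fs`, maps into the Čech complex are `Ext`. -/
theorem nonempty_THom_extCech_equiv (M : ModuleCat.{u} R) : ∀ (fs : List R),
    (∀ f ∈ fs, ∃ e : ℕ, ∀ v : N, f ^ e • v = 0) → ∀ j : ℕ,
      Nonempty (Ext N M j ≃ₗ[R] THom N (extCech M fs) (j : ℤ)) := by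
  intro fs
  induction fs with
  | nil => intro _ j; exact ⟨extTHom N M j⟩
  | cons f fs ih =>
    intro hk j
    obtain ⟨e⟩ := ih (fun g hg => hk g (List.mem_cons_of_mem _ hg)) j
    obtain ⟨c, hc⟩ := hk f List.mem_cons_self
    have hb := bijective_comp_fst (N := N) (locCxUnit (Submonoid.powers f) (extCech M fs)) (j : ℤ)
      fun i => subsingleton_of_isIso_smul (isIso_smul_locCx f (extCech M fs)) hc
    exact ⟨e.trans (LinearEquiv.ofBijective
      (Linear.rightComp R (S0.obj N)
        ((QQmap (CochainComplex.mappingCocone.fst (locCxUnit (Submonoid.powers f) (extCech M fs))))⟦(j : ℤ)⟧'))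
      hb).symm⟩

theorem subsingleton_THom_of_iso {N' : ModuleCat.{u} R} (e : N ≅ N') {L : DRing.Cx R} {j : ℤ}
    (h : Subsingleton (THom N L j)) : Subsingleton (THom N' L j) :=
  (Linear.homCongr R (S0.mapIso e) (Iso.refl ((QQ L)⟦j⟧))).symm.toEquiv.subsingleton

end General

variable {R : Type u} [CommRing R] [IsRegularRing R]

/-- `P` has no specialisation in `V(J)` of height `j`. -/
def Avoid (J P : Ideal R) (j : ℕ) : Prop :=
  ∀ Q : Ideal R, Q.IsPrime → P ≤ Q → J ≤ Q → Q.height ≠ j

theorem height_lt_of_avoid {J P Q : Ideal R} [P.IsPrime] [Q.IsPrime] (hJ : J ≤ P) (hPQ : P ≤ Q)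
    {j : ℕ} (hav : Avoid J P j) (hQ : (j : ℕ∞) < Q.height) : (j : ℕ∞) < P.height := by
  by_contra hle
  rw [not_lt] at hle
  obtain ⟨a, ha⟩ := ENat.ne_top_iff_exists.1 (Ideal.height_ne_top (I := P) (Ideal.IsPrime.ne_top ‹_›))
  obtain ⟨c, hc⟩ := ENat.ne_top_iff_exists.1 (GrothLib.Faltings.relHeight_ne_top P Q hPQ)
  obtain ⟨g, hg⟩ := ENat.ne_top_iff_exists.1 (Ideal.height_ne_top (I := Q) (Ideal.IsPrime.ne_top ‹_›))
  have hsum := height_eq_add_relHeight P Q hPQ ha.symm hc.symm hg.symm
  rw [← ha] at hle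
  rw [← hg] at hQ
  have hja : a ≤ j := by exact_mod_cast hle
  have hjg : j < g := by exact_mod_cast hQ
  -- a maximal chain from `P` to `Q`
  have hh : Order.height (⟨⟨Q, ‹_›⟩, hPQ⟩ : Set.Ici (⟨P, ‹_›⟩ : PrimeSpectrum R)) = c := by
    rw [height_Ici_eq ⟨P, ‹_›⟩ ⟨Q, ‹_›⟩ hPQ, hc]
  obtain ⟨l, hl, hlen⟩ := Order.exists_series_of_height_eq_coe _ hh
  have hi : j - a < l.length + 1 := by omega
  let T := l ⟨j - a, hi⟩
  have hT : Order.height T = (j - a : ℕ) :=
    Order.height_eq_index_of_length_eq_height_last (by rw [hl, hh, hlen]) ⟨j - a, hi⟩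
  rw [show T = ⟨T.1, T.2⟩ from rfl, height_Ici_eq ⟨P, ‹_›⟩ T.1 T.2] at hT
  obtain ⟨b, hb⟩ := ENat.ne_top_iff_exists.1 (Ideal.height_ne_top (I := T.1.asIdeal) T.1.2.ne_top)
  have hsum' := height_eq_add_relHeight P T.1.asIdeal T.2 ha.symm hT hb.symm
  refine hav T.1.asIdeal T.1.2 T.2 (hJ.trans T.2) ?_
  rw [← hb, show b = j by omega]

theorem subsingleton_ext_of_avoid {J P : Ideal R} [P.IsPrime] (hJ : J ≤ P) {j : ℕ} (hav : Avoid J P j) :
    Subsingleton (Ext (ModuleCat.of R (R ⧸ P)) (ModuleCat.of R R) j) := by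
  refine subsingleton_of_forall_eq 0 fun e => ?_
  have key : ∀ Q : Ideal R, Q.IsMaximal → ∃ σ, σ ∉ Q ∧ σ • e = 0 := by
    intro Q hQm
    haveI := hQm.isPrime
    by_cases hPQ : P ≤ Q
    · obtain ⟨g, hg⟩ := ENat.ne_top_iff_exists.1 (Ideal.height_ne_top (I := Q) hQm.ne_top)
      obtain ⟨h1, h2⟩ := stalk_duality Q hg.symm (ModuleCat.of R (R ⧸ P))
      have hjg : j ≠ g := fun h => hav Q inferInstance hPQ (hJ.trans hPQ) (by rw [← hg, h])
      suffices hk : ExtKilled Q.primeCompl j (ModuleCat.of R (R ⧸ P)) by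
        obtain ⟨σ, hσ⟩ := hk e
        exact ⟨σ, σ.2, hσ⟩
      rcases lt_or_gt_of_ne hjg with hlt | hgt
      · refine (h1 (g - j)).1 ?_ j (by omega)
        have hP := height_lt_of_avoid hJ hPQ hav (by rw [← hg]; exact_mod_cast hlt)
        obtain ⟨a, ha⟩ := ENat.ne_top_iff_exists.1 (Ideal.height_ne_top (I := P) (Ideal.IsPrime.ne_top ‹_›))
        obtain ⟨c, hc⟩ := ENat.ne_top_iff_exists.1 (GrothLib.Faltings.relHeight_ne_top P Q hPQ)
        have hsum := height_eq_add_relHeight P Q hPQ ha.symm hc.symm hg.symm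
        rw [← ha] at hP
        have hja : j < a := by exact_mod_cast hP
        let A := Localization.AtPrime Q
        haveI : IsNoetherianRing A := IsLocalization.isNoetherianRing Q.primeCompl _ inferInstance
        let X := LocalizedModule Q.primeCompl (R ⧸ P)
        haveI : Module.Finite A X :=
          Module.Finite.of_isLocalizedModule Q.primeCompl (LocalizedModule.mkLinearMap Q.primeCompl (R ⧸ P))
        refine GrothLib.LC.subsingleton_of_supportDim_lt (g - j) A _ X (lt_of_le_of_lt (b := (c : WithBot ℕ∞)) ?_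
          (by exact_mod_cast (show c < g - j by omega)))
        have hann : P.map (algebraMap R A) ≤ Module.annihilator A X := Ideal.map_le_iff_le_comap.2 fun x hx => by
          refine Ideal.mem_comap.2 (Module.mem_annihilator.2 fun z => ?_)
          obtain ⟨⟨m, s⟩, rfl⟩ := IsLocalizedModule.mk'_surjective Q.primeCompl
            (LocalizedModule.mkLinearMap Q.primeCompl (R ⧸ P)) z
          rw [algebraMap_smul, Function.uncurry_apply_pair, ← IsLocalizedModule.mk'_smul]
          obtain ⟨r, rfl⟩ := Ideal.Quotient.mk_surjective m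
          rw [show x • (Ideal.Quotient.mk P r) = 0 from
            Ideal.Quotient.eq_zero_iff_mem.2 (Ideal.mul_mem_right r P hx), IsLocalizedModule.mk'_zero]
        refine (Module.supportDim_eq_ringKrullDim_quotient_annihilator A X).trans_le
          ((ringKrullDim_le_of_surjective (Ideal.Quotient.factor hann)
            (Ideal.Quotient.factor_surjective hann)).trans ?_)
        haveI hPA : (P.map (algebraMap R A)).IsPrime :=
          IsLocalization.isPrime_of_isPrime_disjoint Q.primeCompl A P ‹_› (GrothLib.Faltings.disjoint_primeCompl hPQ)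
        haveI : Nontrivial (A ⧸ P.map (algebraMap R A)) := Ideal.Quotient.nontrivial_iff.2 hPA.ne_top
        haveI : IsLocalRing (A ⧸ P.map (algebraMap R A)) :=
          IsLocalRing.of_surjective' _ Ideal.Quotient.mk_surjective
        rw [← IsLocalRing.maximalIdeal_height_eq_ringKrullDim, ← IsLocalRing.map_maximalIdeal_of_surjective _
          (Ideal.Quotient.mk_surjective (I := P.map (algebraMap R A)))]
        have h3 := GrothLib.Faltings.relHeight_atPrime P Q Q hPQ le_rfl
        rw [Localization.AtPrime.map_eq_maximalIdeal, ← hc] at h3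
        show ((GrothLib.Faltings.relHeight (P.map (algebraMap R A)) (IsLocalRing.maximalIdeal A) : ℕ∞) :
          WithBot ℕ∞) ≤ _
        rw [h3]
        rfl
      · exact h2 j hgt
    · obtain ⟨x, hxP, hxQ⟩ := SetLike.not_le_iff_exists.1 hPQ
      refine ⟨x, hxQ, ?_⟩
      have h0 : x • 𝟙 (ModuleCat.of R (R ⧸ P)) = 0 := ModuleCat.hom_ext (LinearMap.ext fun m => by
        obtain ⟨m, rfl⟩ := Ideal.Quotient.mk_surjective m
        exact Ideal.Quotient.eq_zero_iff_mem.2 (Ideal.mul_mem_right m P hxP))
      rw [GrothLib.LC.smul_eq_mk₀_comp, h0, Ext.mk₀_zero, Ext.zero_comp]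
  by_contra he
  obtain ⟨Q, hQm, hle⟩ := Ideal.exists_le_maximal (LinearMap.ker (LinearMap.toSpanSingleton R _ e))
    (fun h => he ((one_smul R e).symm.trans (LinearMap.mem_ker.1 (h ▸ Submodule.mem_top : (1 : R) ∈ _))))
  obtain ⟨σ, hσ, hσ'⟩ := key Q hQm
  exact hσ (hle (LinearMap.mem_ker.2 hσ'))

theorem support_mono_exact {N₁ N₂ N₃ : Type u} [AddCommGroup N₁] [Module R N₁] [AddCommGroup N₂]
    [Module R N₂] [AddCommGroup N₃] [Module R N₃] {a : N₁ →ₗ[R] N₂} {b : N₂ →ₗ[R] N₃}
    (ha : Function.Injective a) (hb : Function.Surjective b) :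
    Module.support R N₁ ⊆ Module.support R N₂ ∧ Module.support R N₃ ⊆ Module.support R N₂ :=
  ⟨Module.support_subset_of_injective a ha, Module.support_subset_of_surjective b hb⟩

theorem shortExact_mk {N₁ N₂ N₃ : Type u} [AddCommGroup N₁] [Module R N₁] [AddCommGroup N₂]
    [Module R N₂] [AddCommGroup N₃] [Module R N₃] {a : N₁ →ₗ[R] N₂} {b : N₂ →ₗ[R] N₃}
    (ha : Function.Injective a) (hb : Function.Surjective b) (hex : Function.Exact a b) :
    (ShortComplex.mk (ModuleCat.ofHom a) (ModuleCat.ofHom b)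
      (ModuleCat.hom_ext hex.linearMap_comp_eq_zero)).ShortExact :=
  { exact := (ShortComplex.moduleCat_exact_iff _).2 fun x hx => (hex x).1 hx
    mono_f := (ModuleCat.mono_iff_injective _).2 ha
    epi_g := (ModuleCat.epi_iff_surjective _).2 hb }

theorem quot_mem_support {P : Ideal R} [hP : P.IsPrime] {q : PrimeSpectrum R}
    (h : q ∈ Module.support R (R ⧸ P)) : P ≤ q.asIdeal := by
  rw [Module.mem_support_iff_of_finite, Ideal.annihilator_quotient] at h
  exact h

theorem self_mem_support {P : Ideal R} (hP : P.IsPrime) : (⟨P, hP⟩ : PrimeSpectrum R) ∈ Module.support R (R ⧸ P) := by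
  rw [Module.mem_support_iff_of_finite, Ideal.annihilator_quotient]

/-- Dévissage for vanishing. -/
theorem subsingleton_THom_of_support {L : DRing.Cx R} {j : ℤ} (N : Type u) [AddCommGroup N] [Module R N]
    [Module.Finite R N]
    (h : ∀ q ∈ Module.support R N, Subsingleton (THom (ModuleCat.of R (R ⧸ q.asIdeal)) L j)) :
    Subsingleton (THom (ModuleCat.of R N) L j) := by
  revert h
  refine IsNoetherianRing.induction_on_isQuotientEquivQuotientPrime R ‹_› (motive := fun N _ _ _ =>
    (∀ q ∈ Module.support R N, Subsingleton (THom (ModuleCat.of R (R ⧸ q.asIdeal)) L j)) →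
      Subsingleton (THom (ModuleCat.of R N) L j)) ?_ ?_ ?_
  · intro N _ _ _ _ _
    exact subsingleton_of_forall_eq 0 fun α =>
      (one_smul R α).symm.trans (smul_eq_zero_of_killed (fun v => Subsingleton.elim (α := N) _ _) α)
  · intro N _ _ _ q e h
    exact subsingleton_THom_of_iso e.symm.toModuleIso
      (h q (by rw [LinearEquiv.support_eq e]; exact self_mem_support q.2))
  · intro N₁ _ _ _ N₂ _ _ _ N₃ _ _ _ a b ha hb hex h₁ h₃ h
    obtain ⟨hs₁, hs₃⟩ := support_mono_exact ha hb
    exact subsingleton_middle (shortExact_mk ha hb hex) (h₁ fun q hq => h q (hs₁ hq))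
      (h₃ fun q hq => h q (hs₃ hq))

/-- Vanishing on primes whose specialisations avoid height `j`. -/
theorem subsingleton_THom_of_avoid (fs : List R) (j : ℕ) : ∀ P : Ideal R, P.IsPrime →
    Avoid (Ideal.ofList fs) P j →
      Subsingleton (THom (ModuleCat.of R (R ⧸ P)) (extCech (ModuleCat.of R R) fs) (j : ℤ)) := by
  intro P
  induction P using IsNoetherian.induction with
  | hgt P ih =>
    intro hP hav
    by_cases hJ : Ideal.ofList fs ≤ P
    · obtain ⟨e⟩ := nonempty_THom_extCech_equiv (N := ModuleCat.of R (R ⧸ P)) (ModuleCat.of R R) fs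
        (fun f hf => ⟨1, fun v => by
          obtain ⟨v, rfl⟩ := Ideal.Quotient.mk_surjective v
          rw [pow_one]
          exact Ideal.Quotient.eq_zero_iff_mem.2 (Ideal.mul_mem_right v P (hJ (Ideal.subset_span hf)))⟩) j
      haveI := subsingleton_ext_of_avoid hJ hav
      exact e.symm.toEquiv.subsingleton
    · obtain ⟨f, hf, hfP⟩ : ∃ f ∈ fs, f ∉ P := by
        by_contra h
        push Not at h
        exact hJ (Ideal.span_le.2 h)
      let N' := R ⧸ (P ⊔ Ideal.span {f})
      have h3 : Subsingleton (THom (ModuleCat.of R N') (extCech (ModuleCat.of R R) fs) (j : ℤ)) := by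
        refine subsingleton_THom_of_support N' fun q hq => ?_
        rw [Module.mem_support_iff_of_finite, Ideal.annihilator_quotient] at hq
        refine ih q.asIdeal (lt_of_le_of_ne (le_sup_left.trans hq) fun e => hfP ?_) q.2
          fun Q hQ hle hJQ => hav Q hQ ((le_sup_left.trans hq).trans hle) hJQ
        rw [e]
        exact hq (Ideal.mem_sup_right (Ideal.mem_span_singleton_self f))
      let m : (R ⧸ P) →ₗ[R] (R ⧸ P) := f • LinearMap.id
      have hinj : Function.Injective m := (injective_iff_map_eq_zero _).2 fun z hz => by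
        obtain ⟨z, rfl⟩ := Ideal.Quotient.mk_surjective z
        exact Ideal.Quotient.eq_zero_iff_mem.2
          ((hP.mem_or_mem (Ideal.Quotient.eq_zero_iff_mem.1 hz)).resolve_left hfP)
      have hex : Function.Exact m (Submodule.factor (le_sup_left : P ≤ P ⊔ Ideal.span {f})) := by
        intro z
        obtain ⟨z, rfl⟩ := Submodule.Quotient.mk_surjective _ z
        constructor
        · intro hz
          obtain ⟨a, ha, b, hb, rfl⟩ := Submodule.mem_sup.1 ((Submodule.Quotient.mk_eq_zero _).1 hz)
          obtain ⟨c, rfl⟩ := Ideal.mem_span_singleton'.1 hb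
          refine ⟨Submodule.Quotient.mk c, (Submodule.Quotient.eq _).2 ?_⟩
          show f * c - (a + c * f) ∈ P
          rw [mul_comm f c, sub_add_cancel_right]
          exact neg_mem ha
        · rintro ⟨c, hc⟩
          obtain ⟨c, rfl⟩ := Submodule.Quotient.mk_surjective _ c
          rw [← hc]
          exact (Submodule.Quotient.mk_eq_zero _).2
            (Ideal.mem_sup_right (Ideal.mul_mem_right c _ (Ideal.mem_span_singleton_self f)))
      have hS := shortExact_mk hinj (Submodule.factor_surjective _) hex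
      refine subsingleton_of_forall_eq 0 fun α => ?_
      obtain ⟨c, hc⟩ := exists_pow_smul_THom_eq_zero (acyclic_locCx_extCech (ModuleCat.of R R) fs hf) α
      have key : ∀ k (β : THom (ModuleCat.of R (R ⧸ P)) (extCech (ModuleCat.of R R) fs) (j : ℤ)),
          f ^ k • β = 0 → β = 0 := by
        intro k
        induction k with
        | zero => intro β h; rwa [pow_zero, one_smul] at h
        | succ k ihk =>
          intro β h
          refine ihk β ?_
          have h0 : S0.map (ModuleCat.ofHom m) ≫ (f ^ k • β) = 0 := by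
            rw [show ModuleCat.ofHom m = f • 𝟙 _ from rfl, pre_smul, smul_smul, ← pow_succ']
            exact h
          obtain ⟨γ, hγ⟩ := exists_of_pre_eq_zero hS (f ^ k • β) h0
          rw [hγ, h3.elim γ 0, comp_zero]
      exact key c α hc

/-- Dévissage for finiteness. -/
theorem finite_THom_of_support (fs : List R) (j : ℕ) (N : Type u) [AddCommGroup N] [Module R N]
    [Module.Finite R N]
    (h : ∀ q ∈ Module.support R N, ¬ Ideal.ofList fs ≤ q.asIdeal → Avoid (Ideal.ofList fs) q.asIdeal j) :
    Module.Finite R (THom (ModuleCat.of R N) (extCech (ModuleCat.of R R) fs) (j : ℤ)) := by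
  revert h
  refine IsNoetherianRing.induction_on_isQuotientEquivQuotientPrime R ‹_› (motive := fun N _ _ _ =>
    (∀ q ∈ Module.support R N, ¬ Ideal.ofList fs ≤ q.asIdeal → Avoid (Ideal.ofList fs) q.asIdeal j) →
      Module.Finite R (THom (ModuleCat.of R N) (extCech (ModuleCat.of R R) fs) (j : ℤ))) ?_ ?_ ?_
  · intro N _ _ _ _ _
    haveI : Subsingleton (THom (ModuleCat.of R N) (extCech (ModuleCat.of R R) fs) (j : ℤ)) :=
      subsingleton_of_forall_eq 0 fun α =>
        (one_smul R α).symm.trans (smul_eq_zero_of_killed (fun v => Subsingleton.elim (α := N) _ _) α)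
    exact Module.Finite.of_finite
  · intro N _ _ _ q e h
    have hq := h q (by rw [LinearEquiv.support_eq e]; exact self_mem_support q.2)
    haveI : Module.Finite R (THom (ModuleCat.of R (R ⧸ q.asIdeal)) (extCech (ModuleCat.of R R) fs) (j : ℤ)) := by
      by_cases hJ : Ideal.ofList fs ≤ q.asIdeal
      · obtain ⟨e'⟩ := nonempty_THom_extCech_equiv (N := ModuleCat.of R (R ⧸ q.asIdeal)) (ModuleCat.of R R) fs
          (fun f hf => ⟨1, fun v => by
            obtain ⟨v, rfl⟩ := Ideal.Quotient.mk_surjective v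
            rw [pow_one]
            exact Ideal.Quotient.eq_zero_iff_mem.2
              (Ideal.mul_mem_right v q.asIdeal (hJ (Ideal.subset_span hf)))⟩) j
        exact Module.Finite.equiv e'
      · haveI := subsingleton_THom_of_avoid fs j q.asIdeal q.2 (hq hJ)
        exact Module.Finite.of_finite
    exact Module.Finite.equiv (Linear.homCongr R (S0.mapIso e.symm.toModuleIso) (Iso.refl _))
  · intro N₁ _ _ _ N₂ _ _ _ N₃ _ _ _ a b ha hb hex h₁ h₃ h
    obtain ⟨hs₁, hs₃⟩ := support_mono_exact ha hb
    exact finite_middle (shortExact_mk ha hb hex) (h₁ fun q hq => h q (hs₁ hq))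
      (h₃ fun q hq => h q (hs₃ hq))

end GrothLib.SGA2Fin
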