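import Groth.Agent.Lib.SGA2Fin.Staircase
import Groth.Agent.Lib.SGA2Fin.Devissage
import Groth.Agent.Lib.SGA2Fin.Vanishing
import Groth.Agent.Lib.ExtCech.Compare
import Mathlib.Algebra.Homology.DerivedCategory.KProjective

/-!
# Finiteness of local cohomology over a regular ring
-/

universe u

open CategoryTheory Limits DerCA

namespace GrothLib.SGA2Fin

attribute [local instance] HasDerivedCategory.standard

section Res

variable {R : Type u} [CommRing R] [IsNoetherianRing R] (M : ModuleCat.{u} R) [Module.Finite R M]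

theorem exact_res (n : ℕ) :
    (ShortComplex.mk _ _ ((res M).complex.d_comp_d (n + 2) (n + 1) n)).Exact := by
  refine (ShortComplex.moduleCat_exact_iff _).2 fun v hv => ?_
  have hv' : (resD M n).hom v = 0 := (congrArg (fun f => f.hom v) (resCx_d M n)).symm.trans hv
  obtain ⟨w, hw⟩ := (resD_range M (n + 1)).ge ((resD_ker M n).le (LinearMap.mem_ker.2 hv'))
  exact ⟨w, (congrArg (fun f => f.hom w) (resCx_d M (n + 1))).trans hw⟩

/-- The augmentation of the resolution. -/
noncomputable abbrev resAug : (res M).complex.X 0 ⟶ M := coverπ (syz M 0)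

theorem exact_resAug : (ShortComplex.mk _ (resAug M) (resCx_d_aug M)).Exact := by
  refine (ShortComplex.moduleCat_exact_iff _).2 fun v hv => ?_
  obtain ⟨w, hw⟩ := (resD_range M 0).ge (LinearMap.mem_ker.2 hv)
  exact ⟨w, (congrArg (fun f => f.hom w) (resCx_d M 0)).trans hw⟩

end Res

variable {R : Type u} [CommRing R] [IsRegularRing R]

theorem finite_hom_dualCx (fs : List R) (M : ModuleCat.{u} R) [Module.Finite R M] (i : ℕ)
    (h : CodimOneVanish (Ideal.ofList fs) M i) {b : ℕ} (hb : ∀ m, b < m → IsZero ((res M).complex.X m)) :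
    Module.Finite R (QQ (dualCx (res M).complex) ⟶ (QQ (extCech (ModuleCat.of R R) fs))⟦(i : ℤ)⟧) := by
  let C := dualCx (res M).complex
  let eQ : QQ C ≅ DerivedCategory.Q.obj C := (DerivedCategory.quotientCompQhIso _).app C
  have := isStrictlyLE_dualCx M hb
  refine finite_hom_of_homology (i : ℤ) b (QQ C) (DerivedCategory.TStructure.t.isGE_of_iso eQ.symm 0)
    (DerivedCategory.TStructure.t.isLE_of_iso eQ.symm (b : ℤ)) fun n _ => ?_
  let eH : (DerivedCategory.homologyFunctor _ (n : ℤ)).obj (QQ C) ≅ C.homology (n : ℤ) :=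
    (DerivedCategory.homologyFunctor _ (n : ℤ)).mapIso eQ ≪≫
      (DerivedCategory.homologyFunctorFactors _ (n : ℤ)).app C
  have := finite_homology_dualCx M (n : ℤ)
  have hsupp : ∀ q ∈ Module.support R (C.homology (n : ℤ)), ¬ Ideal.ofList fs ≤ q.asIdeal →
      Avoid (Ideal.ofList fs) q.asIdeal (i + n) := by
    intro q hq hJq Q hQ hqQ hJQ hheight
    have hk := extKilled_of_codimOneVanish h q.asIdeal Q hqQ hJq hJQ hheight
    refine Module.notMem_support_iff'.2 (fun x => ?_) hq
    obtain ⟨σ, hσ⟩ := exists_smul_homology_eq_zero M n hk x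
    exact ⟨σ, σ.2, hσ⟩
  have := finite_THom_of_support fs (i + n) (C.homology (n : ℤ)) hsupp
  rw [← Nat.cast_add]
  exact Module.Finite.equiv (Linear.homCongr R (S0.mapIso eH.symm) (Iso.refl _))

theorem finite_extCechH_of_codimOneVanish (fs : List R) (M : ModuleCat.{u} R) [Module.Finite R M] (i : ℕ)
    (h : CodimOneVanish (Ideal.ofList fs) M i) : Module.Finite R (extCechH fs M (i : ℤ)) := by
  obtain ⟨b, hb⟩ := exists_bound M
  have := finite_res M
  have := projective_res M
  have := isKProjective_dualCx M hb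
  have := finite_hom_dualCx fs M i h hb
  let K := (res M).complex
  let L := extCech (ModuleCat.of R R) fs
  let F := GrothLib.ExtCech.q (R := R)
  let e : DerivedCategory.Qh.obj (F.obj (L⟦(i : ℤ)⟧)) ≅ (QQ L)⟦(i : ℤ)⟧ :=
    ((F ⋙ DerivedCategory.Qh).commShiftIso (i : ℤ)).app L
  let Φ : DualHom fs (i : ℤ) K →ₗ[R] (QQ (dualCx K) ⟶ (QQ L)⟦(i : ℤ)⟧) :=
    (Linear.homCongr R (Iso.refl _) e).toLinearMap.comp
      ((Functor.mapLinearMap R DerivedCategory.Qh).comp (Functor.mapLinearMap R F))
  have hΦ : Function.Surjective Φ := by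
    intro β
    obtain ⟨a, ha⟩ := (CochainComplex.IsKProjective.Qh_map_bijective (dualCx K) _).2
      ((Linear.homCongr R (Iso.refl _) e).symm β)
    obtain ⟨a0, rfl⟩ := F.map_surjective a
    exact ⟨a0, (congrArg (Linear.homCongr R (Iso.refl _) e) ha).trans (LinearEquiv.apply_symm_apply _ β)⟩
  let Θ := thetaH fs (i : ℤ) K (resAug M) (resCx_d_aug M)
  have hΘ : Function.Surjective Θ := thetaH_surjective fs (i : ℤ) K (resAug M) (resCx_d_aug M)
    (exact_res M) (exact_resAug M) (cover_spec (syz M 0)).2.2.1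
  have hker : LinearMap.ker Φ ≤ LinearMap.ker Θ := by
    intro φ hφ
    have h1 : DerivedCategory.Qh.map (F.map φ) = DerivedCategory.Qh.map (F.map 0) := by
      rw [F.map_zero, Functor.map_zero]
      exact (Linear.homCongr R (Iso.refl _) e).injective ((LinearMap.mem_ker.1 hφ).trans (map_zero _).symm)
    exact LinearMap.mem_ker.2 (thetaH_eq_zero_of_homotopy fs (i : ℤ) K (resAug M) (resCx_d_aug M) φ
      (HomotopyCategory.homotopyOfEq _ _ ((CochainComplex.IsKProjective.Qh_map_bijective (dualCx K) _).1 h1)))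
  have hfin : Module.Finite R (extCechH fs M (deg (i : ℤ) 0)) := by
    refine Module.Finite.of_surjective ((Submodule.liftQ (LinearMap.ker Φ) Θ hker).comp
      (LinearMap.quotKerEquivOfSurjective Φ hΦ).symm.toLinearMap) fun x => ?_
    obtain ⟨φ, hφ⟩ := hΘ x
    refine ⟨Φ φ, ?_⟩
    show Submodule.liftQ (LinearMap.ker Φ) Θ hker ((LinearMap.quotKerEquivOfSurjective Φ hΦ).symm (Φ φ)) = x
    rw [show (LinearMap.quotKerEquivOfSurjective Φ hΦ).symm (Φ φ) = Submodule.Quotient.mk φ from
      (LinearEquiv.symm_apply_eq _).2 rfl]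
    exact hφ
  rwa [show deg (i : ℤ) 0 = (i : ℤ) from zero_add _] at hfin

/-- Finiteness of `H^i_J(M)` over a regular ring under the codimension one condition. -/
theorem finite_localCohomology_of_codimOneVanish (J : Ideal R) (M : Type u) [AddCommGroup M] [Module R M]
    [Module.Finite R M] (i : ℕ) (h : CodimOneVanish J M i) : Module.Finite R (LocCoh.H J i M) := by
  classical
  obtain ⟨s, hs⟩ := IsNoetherian.noetherian J
  have hJ : J = Ideal.ofList s.toList := by
    rw [← hs]
    congr 1
    ext x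
    simp
  subst hJ
  have := finite_extCechH_of_codimOneVanish s.toList (ModuleCat.of R M) i h
  obtain ⟨e⟩ := GrothLib.ExtCech.nonempty_extCechH_equiv s.toList i (ModuleCat.of R M)
  exact Module.Finite.equiv e

end GrothLib.SGA2Fin
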