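import Groth.Agent.Lib.SGA2Fin.CechFunctor
import Groth.Agent.Lib.SGA2Fin.DualCx
import Mathlib.CategoryTheory.Abelian.Exact
import Mathlib.Algebra.Homology.HomotopyCategory.Shift

/-!
# Cocycles of the Čech complex of a module from maps out of the dual complex of a resolution
-/

universe u

open CategoryTheory Limits DerCA GrothLib.ExtCech

namespace GrothLib.SGA2Fin

variable {R : Type u} [CommRing R] (fs : List R) (i : ℤ)

instance preservesHomology_cxT (n : ℤ) : (cxT fs n).PreservesHomology :=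
  ((Functor.exact_tfae (cxT fs n)).out 0 2).1 fun _ hS =>
    (cxShort_shortExact hS fs).map_of_exact (HomologicalComplex.eval (ModuleCat.{u} R) (ComplexShape.up ℤ) n)

instance (n : ℤ) : (HomologicalComplex.eval (ModuleCat.{u} R) (ComplexShape.up ℤ) n).Linear R where
  map_smul _ _ := rfl

theorem exists_preimage_of_exact {A B C : ModuleCat.{u} R} {f : A ⟶ B} {g : B ⟶ C} {w : f ≫ g = 0}
    (h : (ShortComplex.mk f g w).Exact) (n : ℤ) (z : (extCech B fs).X n)
    (hz : ((cxMap g fs).f n).hom z = 0) :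
    ∃ y : (extCech A fs).X n, ((cxMap f fs).f n).hom y = z :=
  (ShortComplex.moduleCat_exact_iff _).1 (h.map (cxT fs n)) z hz

theorem cxMap_d {A B : ModuleCat.{u} R} (g : A ⟶ B) (p q : ℤ) (z : (extCech A fs).X p) :
    ((cxMap g fs).f q).hom (((extCech A fs).d p q).hom z) =
      ((extCech B fs).d p q).hom (((cxMap g fs).f p).hom z) :=
  (congrArg (fun k => k.hom z) ((cxMap g fs).comm p q)).symm

theorem cxMap_cxMap {A B C : ModuleCat.{u} R} (g : A ⟶ B) (g' : B ⟶ C) (p : ℤ) (z : (extCech A fs).X p) :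
    ((cxMap g' fs).f p).hom (((cxMap g fs).f p).hom z) = ((cxMap (g ≫ g') fs).f p).hom z :=
  (congrArg (fun k => k.hom z) ((cxT fs p).map_comp g g')).symm

/-- The dual of the terms of the Čech complex at a projective. -/
noncomputable def ev (n : ℤ) (P : ModuleCat.{u} R) [Module.Finite R P] [Module.Projective R P] :
    (extCech P fs).X n ≃ₗ[R] (dualM P →ₗ[R] (extCech (ModuleCat.of R R) fs).X n) :=
  LinearEquiv.ofBijective (dualEval (cxT fs n) P) (bijective_dualEval _ P)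

theorem ev_apply (n : ℤ) (P : ModuleCat.{u} R) [Module.Finite R P] [Module.Projective R P]
    (z : (extCech P fs).X n) (ξ : P ⟶ ModuleCat.of R R) :
    ev fs n P z ξ = ((cxMap ξ fs).f n).hom z := rfl

variable {M : ModuleCat.{u} R} (K : ChainComplex (ModuleCat.{u} R) ℕ)
  [∀ n, Module.Finite R (K.X n)] [∀ n, Module.Projective R (K.X n)] (ε : K.X 0 ⟶ M)

/-- The degree of the `t`-th step. -/
abbrev deg (t : ℕ) : ℤ := (t : ℤ) + i

/-- Maps from the dual complex into the shifted Čech complex. -/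
abbrev DualHom := dualCx K ⟶ (extCech (ModuleCat.of R R) fs)⟦i⟧

/-- The component of a map, as an element. -/
noncomputable def comp' (t : ℕ) : DualHom fs i K →ₗ[R] (extCech (K.X t) fs).X (deg i t) :=
  (ev fs (deg i t) (K.X t)).symm.toLinearMap.comp
    ({ toFun := fun φ => (φ.f (t : ℤ)).hom
       map_add' := fun _ _ => rfl
       map_smul' := fun _ _ => rfl } :
      DualHom fs i K →ₗ[R] (dualM (K.X t) →ₗ[R] (extCech (ModuleCat.of R R) fs).X (deg i t)))

theorem cxMap_comp' (φ : DualHom fs i K) (t : ℕ) (ξ : K.X t ⟶ ModuleCat.of R R) :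
    ((cxMap ξ fs).f (deg i t)).hom (comp' fs i K t φ) = (φ.f (t : ℤ)).hom ξ :=
  LinearMap.congr_fun ((ev fs (deg i t) (K.X t)).apply_symm_apply (φ.f (t : ℤ)).hom) ξ

theorem d_comp' (φ : DualHom fs i K) (t : ℕ) :
    ((cxMap (K.d (t + 1) t) fs).f (deg i (t + 1))).hom (comp' fs i K (t + 1) φ) =
      i.negOnePow • ((extCech (K.X t) fs).d (deg i t) (deg i (t + 1))).hom (comp' fs i K t φ) := by
  refine (ev fs (deg i (t + 1)) (K.X t)).injective (LinearMap.ext fun ξ => ?_)
  rw [ev_apply, ev_apply, cxMap_cxMap, cxMap_comp', Units.smul_def, map_zsmul, cxMap_d, cxMap_comp']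
  have h := congrArg (fun k => k.hom ξ) (φ.comm (t : ℤ) ((t + 1 : ℕ) : ℤ))
  refine ((congrArg (φ.f ((t + 1 : ℕ) : ℤ)).hom (dualCx_d_apply K (t : ℤ) ξ)).symm.trans h.symm).trans ?_
  rfl

/-- The cochain of the module attached to a map. -/
noncomputable def theta : DualHom fs i K →ₗ[R] (extCech M fs).X (deg i 0) :=
  ((cxMap ε fs).f (deg i 0)).hom.comp (comp' fs i K 0)

variable (hε : K.d 1 0 ≫ ε = 0)
include hε

theorem d_theta (φ : DualHom fs i K) :
    ((extCech M fs).d (deg i 0) (deg i 1)).hom (theta fs i K ε φ) = 0 := by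
  show ((extCech M fs).d (deg i 0) (deg i 1)).hom (((cxMap ε fs).f (deg i 0)).hom (comp' fs i K 0 φ)) = 0
  rw [← cxMap_d]
  have h := congrArg ((cxMap ε fs).f (deg i 1)).hom (d_comp' fs i K φ 0)
  rw [cxMap_cxMap, hε, Units.smul_def, map_zsmul] at h
  refine (i.negOnePow.isUnit.smul_eq_zero).1 (h.symm.trans ?_)
  show (((cxT fs (deg i 1)).map (0 : K.X 1 ⟶ M))).hom _ = 0
  rw [Functor.map_zero]
  rfl

/-- The class attached to a map. -/
noncomputable def thetaH : DualHom fs i K →ₗ[R] (extCech M fs).homology (deg i 0) :=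
  (HomologicalComplex.liftCycles (extCech M fs)
      (ModuleCat.ofHom (theta fs i K ε) : ModuleCat.of R (DualHom fs i K) ⟶ _) (deg i 1)
      ((ComplexShape.up ℤ).next_eq' (by simp [deg]; ring)) (ModuleCat.hom_ext (LinearMap.ext fun φ =>
        d_theta fs i K ε hε φ)) ≫ (extCech M fs).homologyπ (deg i 0)).hom

theorem thetaH_eq_zero_of_homotopy (φ : DualHom fs i K) (h : Homotopy φ 0) :
    thetaH fs i K ε hε φ = 0 := by
  let w1 : (extCech (K.X 1) fs).X (deg i 0) :=
    (ev fs (deg i 0) (K.X 1)).symm (h.hom ((1 : ℕ) : ℤ) ((0 : ℕ) : ℤ)).hom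
  let w0 : (extCech (K.X 0) fs).X ((-1 : ℤ) + i) :=
    (ev fs ((-1 : ℤ) + i) (K.X 0)).symm (h.hom ((0 : ℕ) : ℤ) (-1)).hom
  have hw : comp' fs i K 0 φ = ((cxMap (K.d 1 0) fs).f (deg i 0)).hom w1 +
      i.negOnePow • ((extCech (K.X 0) fs).d ((-1 : ℤ) + i) (deg i 0)).hom w0 := by
    refine (ev fs (deg i 0) (K.X 0)).injective (LinearMap.ext fun ξ => ?_)
    have hc := h.comm ((0 : ℕ) : ℤ)
    rw [HomologicalComplex.zero_f, add_zero,
      dNext_eq _ (show (ComplexShape.up ℤ).Rel ((0 : ℕ) : ℤ) ((1 : ℕ) : ℤ) from rfl),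
      prevD_eq _ (show (ComplexShape.up ℤ).Rel (-1) ((0 : ℕ) : ℤ) from rfl)] at hc
    rw [ev_apply, ev_apply, cxMap_comp', hc, map_add, cxMap_cxMap, Units.smul_def, map_zsmul, cxMap_d]
    have e1 : ((cxMap (K.d 1 0 ≫ ξ) fs).f (deg i 0)).hom w1 = (h.hom ((1 : ℕ) : ℤ) ((0 : ℕ) : ℤ)).hom
        (K.d 1 0 ≫ ξ) :=
      LinearMap.congr_fun ((ev fs (deg i 0) (K.X 1)).apply_symm_apply (h.hom ((1 : ℕ) : ℤ) ((0 : ℕ) : ℤ)).hom)
        (K.d 1 0 ≫ ξ)
    have e0 : ((cxMap ξ fs).f ((-1 : ℤ) + i)).hom w0 = (h.hom ((0 : ℕ) : ℤ) (-1)).hom ξ :=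
      LinearMap.congr_fun ((ev fs ((-1 : ℤ) + i) (K.X 0)).apply_symm_apply (h.hom ((0 : ℕ) : ℤ) (-1)).hom) ξ
    rw [e1, e0]
    refine congrArg₂ (· + ·) (congrArg (h.hom ((1 : ℕ) : ℤ) ((0 : ℕ) : ℤ)).hom (dualCx_d_apply K (0 : ℤ) ξ)) ?_
    rfl
  have hθ : theta fs i K ε φ = i.negOnePow • ((extCech M fs).d ((-1 : ℤ) + i) (deg i 0)).hom
      (((cxMap ε fs).f ((-1 : ℤ) + i)).hom w0) := by
    show ((cxMap ε fs).f (deg i 0)).hom (comp' fs i K 0 φ) = _
    rw [hw, map_add, cxMap_cxMap, hε, Units.smul_def, map_zsmul, cxMap_d]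
    show (((cxT fs (deg i 0)).map (0 : K.X 1 ⟶ M))).hom w1 + _ = _
    rw [Functor.map_zero]
    exact zero_add _
  let C := extCech M fs
  let w := i.negOnePow • ((cxMap ε fs).f ((-1 : ℤ) + i)).hom w0
  have hcyc : (HomologicalComplex.liftCycles C
      (ModuleCat.ofHom (theta fs i K ε) : ModuleCat.of R (DualHom fs i K) ⟶ _) (deg i 1)
      ((ComplexShape.up ℤ).next_eq' (by simp [deg]; ring)) (ModuleCat.hom_ext (LinearMap.ext fun φ =>
        d_theta fs i K ε hε φ))).hom φ = (C.toCycles ((-1 : ℤ) + i) (deg i 0)).hom w := by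
    refine (ModuleCat.mono_iff_injective (C.iCycles (deg i 0))).1 inferInstance ?_
    refine (congrArg (fun k : ModuleCat.of R (DualHom fs i K) ⟶ C.X (deg i 0) => k.hom φ) (C.liftCycles_i _ _ _ _)).trans ?_
    refine (hθ.trans ?_).trans (congrArg (fun k => k.hom w) (C.toCycles_i ((-1 : ℤ) + i) (deg i 0))).symm
    simp only [w, Units.smul_def, map_zsmul]
    rfl
  show (C.homologyπ (deg i 0)).hom _ = 0
  refine (congrArg (C.homologyπ (deg i 0)).hom hcyc).trans ?_
  exact congrArg (fun k => k.hom w) (C.toCycles_comp_homologyπ ((-1 : ℤ) + i) (deg i 0))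

variable (hexact : ∀ n, (ShortComplex.mk _ _ (K.d_comp_d (n + 2) (n + 1) n)).Exact)
  (hexact₀ : (ShortComplex.mk _ _ hε).Exact) (hepi : Function.Surjective ε.hom)
include hexact hexact₀ hepi

theorem exists_theta_eq (z : (extCech M fs).X (deg i 0))
    (hz : ((extCech M fs).d (deg i 0) (deg i 1)).hom z = 0) : ∃ φ, theta fs i K ε φ = z := by
  classical
  let Good : ∀ t : ℕ, (extCech (K.X t) fs).X (deg i t) → Prop := fun t w =>
    ∃ w' : (extCech (K.X (t + 1)) fs).X (deg i (t + 1)),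
      ((cxMap (K.d (t + 1) t) fs).f (deg i (t + 1))).hom w' =
        i.negOnePow • ((extCech (K.X t) fs).d (deg i t) (deg i (t + 1))).hom w
  haveI : Epi ε := (ModuleCat.epi_iff_surjective _).2 hepi
  obtain ⟨z0, hz0⟩ : ∃ z0 : (extCech (K.X 0) fs).X (deg i 0), ((cxMap ε fs).f (deg i 0)).hom z0 = z :=
    (ModuleCat.epi_iff_surjective ((cxT fs (deg i 0)).map ε)).1 inferInstance z
  have hgood0 : Good 0 z0 := by
    refine exists_preimage_of_exact fs hexact₀ (deg i 1) _ ?_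
    rw [Units.smul_def, map_zsmul, cxMap_d]
    refine (congrArg (((i.negOnePow : ℤˣ) : ℤ) • ·) ?_).trans (smul_zero _)
    exact (congrArg ((extCech M fs).d (deg i 0) (deg i 1)).hom hz0).trans hz
  have hstep : ∀ t w (hw : Good t w), Good (t + 1) hw.choose := by
    intro t w hw
    refine exists_preimage_of_exact fs (hexact t) (deg i (t + 1 + 1)) _ ?_
    rw [Units.smul_def, map_zsmul, cxMap_d]
    refine (congrArg (((i.negOnePow : ℤˣ) : ℤ) • ·) ?_).trans (smul_zero _)
    refine (congrArg ((extCech (K.X t) fs).d (deg i (t + 1)) (deg i (t + 1 + 1))).hom hw.choose_spec).trans ?_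
    rw [Units.smul_def, map_zsmul]
    refine (congrArg (((i.negOnePow : ℤˣ) : ℤ) • ·) ?_).trans (smul_zero _)
    exact congrArg (fun k : (extCech (K.X t) fs).X (deg i t) ⟶ (extCech (K.X t) fs).X (deg i (t + 1 + 1)) => k.hom w)
      ((extCech (K.X t) fs).d_comp_d (deg i t) (deg i (t + 1)) (deg i (t + 1 + 1)))
  let seq : ∀ t : ℕ, {w : (extCech (K.X t) fs).X (deg i t) // Good t w} := fun t =>
    Nat.rec (motive := fun t => {w : (extCech (K.X t) fs).X (deg i t) // Good t w}) ⟨z0, hgood0⟩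
      (fun t w => ⟨w.2.choose, hstep t w.1 w.2⟩) t
  let f : ∀ t : ℤ, (dualCx K).X t ⟶ ((extCech (ModuleCat.of R R) fs)⟦i⟧).X t := fun t =>
    match t with
    | Int.ofNat n => ModuleCat.ofHom (ev fs (deg i n) (K.X n) (seq n).1)
    | Int.negSucc _ => 0
  let φ : DualHom fs i K :=
    { f := f
      comm' := fun a b hab => by
        obtain rfl : a + 1 = b := hab
        rcases a with n | k
        · refine ModuleCat.hom_ext (LinearMap.ext fun (ξ : K.X n ⟶ ModuleCat.of R R) => ?_)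
          show i.negOnePow • ((extCech (ModuleCat.of R R) fs).d (deg i n) (deg i (n + 1))).hom
              (((cxMap ξ fs).f (deg i n)).hom (seq n).1) =
            (f ((n + 1 : ℕ) : ℤ)).hom (((dualCx K).d (n : ℤ) ((n : ℤ) + 1)).hom ξ)
          refine Eq.trans ?_ (congrArg (f ((n + 1 : ℕ) : ℤ)).hom (dualCx_d_apply K (n : ℤ) ξ)).symm
          refine Eq.trans ?_ (ev_apply fs (deg i (n + 1)) (K.X (n + 1)) (seq (n + 1)).1 (K.d (n + 1) n ≫ ξ)).symm
          rw [← cxMap_cxMap]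
          refine Eq.trans ?_ (congrArg ((cxMap ξ fs).f (deg i (n + 1))).hom (seq n).2.choose_spec).symm
          rw [Units.smul_def, Units.smul_def, map_zsmul, cxMap_d]
        · exact (isZero_dualM (isZero_Pz_negSucc K k)).eq_of_src _ _ }
  refine ⟨φ, ?_⟩
  show ((cxMap ε fs).f (deg i 0)).hom (comp' fs i K 0 φ) = z
  refine Eq.trans (congrArg _ ?_) hz0
  exact (ev fs (deg i 0) (K.X 0)).symm_apply_apply z0

theorem thetaH_surjective : Function.Surjective (thetaH fs i K ε hε) := by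
  intro x
  obtain ⟨c, rfl⟩ := (ModuleCat.epi_iff_surjective ((extCech M fs).homologyπ (deg i 0))).1 inferInstance x
  obtain ⟨φ, hφ⟩ := exists_theta_eq fs i K ε hε hexact hexact₀ hepi (((extCech M fs).iCycles (deg i 0)).hom c)
    (congrArg (fun k => k.hom c) ((extCech M fs).iCycles_d (deg i 0) (deg i 1)))
  refine ⟨φ, congrArg ((extCech M fs).homologyπ (deg i 0)).hom ?_⟩
  refine (ModuleCat.mono_iff_injective ((extCech M fs).iCycles (deg i 0))).1 inferInstance ?_
  exact (congrArg (fun k : ModuleCat.of R (DualHom fs i K) ⟶ (extCech M fs).X (deg i 0) => k.hom φ) ((extCech M fs).liftCycles_i _ _ _ _)).trans hφ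

end GrothLib.SGA2Fin
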