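import Groth.Agent.Lib.SGA2Fin.ExtLoc
import Groth.Agent.Lib.CanonMod.CM
import Groth.Agent.Lib.Faltings.LowerBound
import Groth.Agent.Lib.Gor.Hull
import Groth.Agent.Lib.InjMod.Essential
import Groth.Agent.Lib.LC.Vanish
import Groth.Agent.S0342

/-!
# Local duality at the stalks of a regular ring
-/

universe u

open CategoryTheory Abelian

namespace GrothLib.SGA2Fin

variable {R : Type u} [CommRing R] [IsRegularRing R]

local notation "YY" P => ModuleCat.localizedModule (ModuleCat.of R R) (Ideal.primeCompl P)

theorem locDuality (A : Type u) [CommRing A] [IsRegularLocalRing A] {h : ℕ} (hh : ringKrullDim A = h)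
    (N : ModuleCat.{u} A) [Module.Finite A N] :
    (∀ j, Subsingleton ((localCohomology (IsLocalRing.maximalIdeal A) j).obj N) ↔
      ∀ s, j + s = h → Subsingleton (Ext N (ModuleCat.of A A) s)) ∧
    ∀ s, h < s → Subsingleton (Ext N (ModuleCat.of A A) s) := by
  haveI := Groth.Agent.S0342.result A
  haveI := GrothLib.Gor.isCohenMacaulayLocalRing (A := A)
  obtain ⟨E, _, _, f, hf⟩ :
      ∃ (E : Type u) (_ : AddCommGroup E) (_ : Module A E) (f : IsLocalRing.ResidueField A →ₗ[A] E),
        InjHull.IsInjectiveHull f :=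
    ⟨_, inferInstance, inferInstance, GrothLib.Gor.exists_isInjectiveHull A hh⟩
  obtain ⟨f', hf'⟩ := GrothLib.Gor.exists_isInjectiveHull A hh
  obtain ⟨e, -⟩ := GrothLib.InjMod.hull_unique hf hf'
  have eK := (LinearMap.ringLmapEquivSelf A A E).trans e
  have hdep := GrothLib.CanonMod.cm_le_idealDepth hh
  refine ⟨fun j => ⟨fun hs s hjs => ?_, fun hs => ?_⟩, fun s hs => ?_⟩
  · obtain ⟨e'⟩ := GrothLib.CanonMod.local_duality hh hf hdep eK s N (by omega)
    rw [show h - s = j by omega] at e'
    exact GrothLib.CanonMod.subsingleton_ext_of_dual hf e'.symm.injective.subsingleton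
  · rcases le_or_gt j h with hj | hj
    · obtain ⟨e'⟩ := GrothLib.CanonMod.local_duality hh hf hdep eK (h - j) N (by omega)
      rw [show h - (h - j) = j by omega] at e'
      have h0 := hs (h - j) (by omega)
      haveI : Subsingleton (Ext N (ModuleCat.of A A) (h - j) →ₗ[A] E) :=
        ⟨fun a b => LinearMap.ext fun x => by rw [h0.elim x 0, map_zero, map_zero]⟩
      exact e'.injective.subsingleton
    · exact GrothLib.LC.subsingleton_of_supportDim_lt j A _ N
        (lt_of_le_of_lt (Module.supportDim_le_ringKrullDim A N) (hh ▸ by exact_mod_cast hj))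
  · have := GrothLib.CanonMod.subsingleton_ext_above hh hf hdep eK (s - (h + 1)) N
    rwa [show h + 1 + (s - (h + 1)) = s by omega] at this

theorem subsingleton_ext_iff_of_iso {A : Type u} [CommRing A] {X X' Y Y' : ModuleCat.{u} A}
    (e : X ≅ X') (e' : Y ≅ Y') (s : ℕ) : Subsingleton (Ext X Y s) ↔ Subsingleton (Ext X' Y' s) := by
  constructor <;> intro h <;> refine subsingleton_of_forall_eq 0 fun x => ?_
  · have h1 := h.elim ((Ext.mk₀ e.hom).comp (x.comp (Ext.mk₀ e'.inv) (add_zero s)) (zero_add s)) 0
    have h2 := congrArg (fun y => (Ext.mk₀ e.inv).comp (y.comp (Ext.mk₀ e'.hom) (add_zero s)) (zero_add s)) h1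
    simpa [Ext.comp_assoc_of_third_deg_zero, Ext.comp_assoc_of_second_deg_zero] using h2
  · have h1 := h.elim ((Ext.mk₀ e.inv).comp (x.comp (Ext.mk₀ e'.hom) (add_zero s)) (zero_add s)) 0
    have h2 := congrArg (fun y => (Ext.mk₀ e.hom).comp (y.comp (Ext.mk₀ e'.inv) (add_zero s)) (zero_add s)) h1
    simpa [Ext.comp_assoc_of_third_deg_zero, Ext.comp_assoc_of_second_deg_zero] using h2

theorem stalk_duality (P : Ideal R) [P.IsPrime] {h : ℕ} (hh : P.height = h)
    (M : ModuleCat.{u} R) [Module.Finite R M] :
    (∀ j, Subsingleton (LocCoh.H (IsLocalRing.maximalIdeal (Localization.AtPrime P)) j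
        (LocalizedModule P.primeCompl M)) ↔
      ∀ s, j + s = h → ExtKilled P.primeCompl s M) ∧
    ∀ s, h < s → ExtKilled P.primeCompl s M := by
  haveI := IsRegularRing.isRegularLocalRing_localization P
  have hdim : ringKrullDim (Localization.AtPrime P) = h := by
    rw [IsLocalization.AtPrime.ringKrullDim_eq_height P (Localization.AtPrime P), hh]; rfl
  let N : ModuleCat.{u} (Localization.AtPrime P) :=
    ModuleCat.of (Localization.AtPrime P) (LocalizedModule P.primeCompl M)
  haveI : Module.Finite (Localization.AtPrime P) (LocalizedModule P.primeCompl M) :=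
    Module.Finite.of_isLocalizedModule P.primeCompl (LocalizedModule.mkLinearMap P.primeCompl M)
  haveI : Module.Finite (Localization.AtPrime P) N :=
    inferInstanceAs (Module.Finite (Localization.AtPrime P) (LocalizedModule P.primeCompl M))
  obtain ⟨h1, h2⟩ := locDuality (Localization.AtPrime P) hdim N
  have hiff : ∀ s, Subsingleton (Ext N (ModuleCat.of (Localization.AtPrime P) (Localization.AtPrime P)) s) ↔
      ExtKilled P.primeCompl s M := fun s =>
    (subsingleton_ext_iff_of_iso
      ((Shrink.linearEquiv (Localization P.primeCompl) (LocalizedModule P.primeCompl M)).symm.toModuleIso)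
      (GrothLib.Gor.localizedModuleSelfIso P.primeCompl).symm s).trans
      (subsingleton_ext_localized_iff s M)
  exact ⟨fun j => (h1 j).trans (forall₂_congr fun s _ => hiff s), fun s hs => (hiff s).1 (h2 s hs)⟩

end GrothLib.SGA2Fin
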