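import Groth.Agent.Lib.SGA2Fin.Derived
import Groth.Agent.Lib.SGA2Fin.Resolution
import Mathlib.Algebra.Homology.DerivedCategory.KProjective
import Mathlib.CategoryTheory.Abelian.Projective.Ext
import Mathlib.Algebra.Module.FinitePresentation
import Mathlib.Data.Int.Interval

/-!
# Torsion of maps into a complex with acyclic localisation
-/

universe u

open CategoryTheory Limits DerCA

namespace GrothLib.SGA2Fin

attribute [local instance] HasDerivedCategory.standard

variable {R : Type u} [CommRing R]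

theorem exists_pow_smul_comp_eq_zero {P Y Z : ModuleCat.{u} R} [Module.Finite R P] {f : R} (u : Y ⟶ Z)
    [IsLocalizedModule (Submonoid.powers f) u.hom] (a : P ⟶ Y) (h : a ≫ u = 0) :
    ∃ c : ℕ, f ^ c • a = 0 := by
  classical
  obtain ⟨t, ht⟩ := (Module.Finite.fg_top : (⊤ : Submodule R P).FG)
  have hx : ∀ m : P, ∃ c : ℕ, f ^ c • a.hom m = 0 := fun m => by
    obtain ⟨⟨_, c, rfl⟩, hc⟩ := (IsLocalizedModule.eq_zero_iff (Submonoid.powers f) u.hom).1
      (show u.hom (a.hom m) = 0 from congrArg (fun g => g.hom m) h)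
    exact ⟨c, hc⟩
  choose c hc using hx
  refine ⟨t.sup c, ModuleCat.hom_ext (LinearMap.ext_on ht fun m hm => ?_)⟩
  obtain ⟨k, hk⟩ := Nat.exists_eq_add_of_le (Finset.le_sup (f := c) hm)
  show f ^ t.sup c • a.hom m = 0
  rw [hk, add_comm, pow_add, mul_smul, hc, smul_zero]

theorem exists_lift_pow [IsNoetherianRing R] {P Y Z : ModuleCat.{u} R} [Module.Finite R P] {f : R}
    (u : Y ⟶ Z) [IsLocalizedModule (Submonoid.powers f) u.hom] (h : P ⟶ Z) :
    ∃ (c : ℕ) (k : P ⟶ Y), k ≫ u = f ^ c • h := by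
  haveI : Module.FinitePresentation R P := Module.finitePresentation_of_finite R P
  obtain ⟨k, ⟨_, c, rfl⟩, hk⟩ :=
    Module.FinitePresentation.exists_lift_of_isLocalizedModule (Submonoid.powers f) u.hom h.hom
  exact ⟨c, ModuleCat.ofHom k, ModuleCat.hom_ext hk⟩

/-- A map from a bounded complex of finite modules into `Y` is torsion in the homotopy category
if `Y` has acyclic localisation. -/
theorem exists_pow_smul_homotopic [IsNoetherianRing R] {P Y Z : DRing.Cx R} [P.IsKProjective] {f : R}
    (u : Y ⟶ Z) [hu : ∀ n, IsLocalizedModule (Submonoid.powers f) (u.f n).hom] (hZ : Z.Acyclic)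
    (hP : ∀ n, Module.Finite R (P.X n)) (s : Finset ℤ) (hs : ∀ n ∉ s, IsZero (P.X n)) (a : P ⟶ Y) :
    ∃ N : ℕ, (GrothLib.ExtCech.q (R := R)).map (f ^ N • a) = 0 := by
  classical
  let H := CochainComplex.IsKProjective.homotopyZero (a ≫ u) hZ
  have hlift : ∀ i j : ℤ, ∃ (c : ℕ) (k : P.X i ⟶ Y.X j), k ≫ u.f j = f ^ c • H.hom i j := fun i j =>
    haveI := hP i
    exists_lift_pow (u.f j) (H.hom i j)
  choose c k hk using hlift
  let c0 := s.sup fun i => c i (i - 1)
  let k' : ∀ i j : ℤ, (ComplexShape.up ℤ).Rel j i → (P.X i ⟶ Y.X j) :=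
    fun i j _ => f ^ (c0 - c i j) • k i j
  have hk' : ∀ i j (h : (ComplexShape.up ℤ).Rel j i), k' i j h ≫ u.f j = f ^ c0 • H.hom i j := by
    intro i j h
    by_cases hi : i ∈ s
    · have hle : c i j ≤ c0 := by
        rw [show j = i - 1 from eq_sub_of_add_eq h]
        exact Finset.le_sup (f := fun i => c i (i - 1)) hi
      show (f ^ (c0 - c i j) • k i j) ≫ u.f j = _
      rw [Linear.smul_comp, hk, smul_smul, ← pow_add, Nat.sub_add_cancel hle]
    · exact (hs i hi).eq_of_src _ _
  let e : P ⟶ Y := f ^ c0 • a - Homotopy.nullHomotopicMap' k'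
  have he : ∀ n, e.f n ≫ u.f n = 0 := by
    intro n
    have hc := H.comm n
    rw [HomologicalComplex.zero_f, add_zero, dNext_eq _ (show (ComplexShape.up ℤ).Rel n (n + 1) from rfl),
      prevD_eq _ (show (ComplexShape.up ℤ).Rel (n - 1) n from sub_add_cancel n 1)] at hc
    rw [HomologicalComplex.sub_f_apply, HomologicalComplex.smul_f_apply,
      Homotopy.nullHomotopicMap'_f (show (ComplexShape.up ℤ).Rel (n - 1) n from sub_add_cancel n 1)
        (show (ComplexShape.up ℤ).Rel n (n + 1) from rfl)]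
    simp only [Preadditive.sub_comp, Preadditive.add_comp, Category.assoc, Linear.smul_comp, hk']
    rw [← u.comm, ← Category.assoc (k' n (n - 1) (sub_add_cancel n 1)), hk' n (n - 1) (sub_add_cancel n 1), ← HomologicalComplex.comp_f, hc, smul_add,
      Linear.comp_smul, Linear.smul_comp]
    abel
  have hann : ∀ n, ∃ d : ℕ, f ^ d • e.f n = 0 := fun n =>
    haveI := hP n
    exists_pow_smul_comp_eq_zero (u.f n) (e.f n) (he n)
  choose d hd using hann
  refine ⟨s.sup d + c0, ?_⟩
  have heq : f ^ s.sup d • e = 0 := by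
    ext n : 1
    by_cases hn : n ∈ s
    · obtain ⟨k, hk⟩ := Nat.exists_eq_add_of_le (Finset.le_sup (f := d) hn)
      rw [HomologicalComplex.smul_f_apply, hk, add_comm, pow_add, mul_smul, hd, smul_zero,
        HomologicalComplex.zero_f]
    · exact (hs n hn).eq_of_src _ _
  have heq' : f ^ (s.sup d + c0) • a = f ^ s.sup d • Homotopy.nullHomotopicMap' k' := by
    rw [pow_add, mul_smul]
    exact sub_eq_zero.1 (by rw [← smul_sub]; exact heq)
  rw [heq', Functor.map_smul, HomotopyCategory.eq_of_homotopy _ _ (Homotopy.nullHomotopy' k'),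
    Functor.map_zero, smul_zero]

theorem isIso_QQmap {X Y : DRing.Cx R} (g : X ⟶ Y) [QuasiIso g] : IsIso (QQmap g) := by
  have h : IsIso (DerivedCategory.Q.map g) := inferInstance
  exact (NatIso.isIso_map_iff (DerivedCategory.quotientCompQhIso (ModuleCat.{u} R)).symm g).1 h

/-- Classes in `Hom_D(N, L[j])` are `f`-torsion if `L` has acyclic localisation at `f`. -/
theorem exists_pow_smul_THom_eq_zero [IsRegularRing R] {N : ModuleCat.{u} R} [Module.Finite R N]
    {L : DRing.Cx R} {f : R} (hL : ((locCx (Submonoid.powers f)).obj L).Acyclic) {j : ℤ} (α : THom N L j) :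
    ∃ c : ℕ, f ^ c • α = 0 := by
  classical
  obtain ⟨b, hb⟩ := exists_bound N
  let P := (res N).cochainComplex
  haveI : QuasiIso (res N).π' := inferInstance
  haveI := isIso_QQmap (res N).π'
  let g : QQ P ⟶ S0.obj N := QQmap (res N).π'
  haveI : IsIso g := this
  let F := GrothLib.ExtCech.q (R := R) ⋙ DerivedCategory.Qh
  let e := (F.commShiftIso j).app L
  obtain ⟨a, ha⟩ := (CochainComplex.IsKProjective.Qh_map_bijective P _).2 (g ≫ α ≫ e.inv)
  obtain ⟨a0, rfl⟩ := (GrothLib.ExtCech.q (R := R)).map_surjective a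
  let u : L⟦j⟧ ⟶ ((locCx (Submonoid.powers f)).obj L)⟦j⟧ := (locCxUnit (Submonoid.powers f) L)⟦j⟧'
  have hu : ∀ n, IsLocalizedModule (Submonoid.powers f) (u.f n).hom := fun n =>
    inferInstanceAs (IsLocalizedModule (Submonoid.powers f)
      (LocalizedModule.mkLinearMap (Submonoid.powers f) (L.X (n + j))))
  have hZ : (((locCx (Submonoid.powers f)).obj L)⟦j⟧).Acyclic := fun n => by
    rw [HomologicalComplex.exactAt_iff_isZero_homology]
    exact IsZero.of_iso ((hL (n + j)).isZero_homology)
      ((HomologicalComplex.homologyFunctor (ModuleCat.{u} R) (ComplexShape.up ℤ) 0).shiftIso j n (n + j)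
        (by omega) |>.app _)
  have hP : ∀ n, Module.Finite R (P.X n) := by
    intro n
    by_cases hn : n ≤ 0
    · haveI := finite_res N n.natAbs
      exact Module.Finite.equiv ((res N).cochainComplexXIso n n.natAbs (by omega)).toLinearEquiv.symm
    · haveI : Subsingleton (P.X n) := ModuleCat.isZero_iff_subsingleton.1
        (CochainComplex.isZero_of_isStrictlyLE _ 0 n (by omega))
      exact Module.Finite.of_finite
  obtain ⟨c, hc⟩ := exists_pow_smul_homotopic (hu := hu) u hZ hP (Finset.Icc (-(b : ℤ)) 0) (fun n hn => by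
    rw [Finset.mem_Icc] at hn
    by_cases hn0 : n ≤ 0
    · exact (hb n.natAbs (by omega)).of_iso ((res N).cochainComplexXIso n n.natAbs (by omega))
    · exact CochainComplex.isZero_of_isStrictlyLE _ 0 n (by omega)) a0
  refine ⟨c, ?_⟩
  have h1 : g ≫ (f ^ c • α) ≫ e.inv = 0 := by
    simp only [Linear.smul_comp, Linear.comp_smul]
    rw [show g ≫ α ≫ e.inv = DerivedCategory.Qh.map ((GrothLib.ExtCech.q (R := R)).map a0) from ha.symm, ← Functor.map_smul, ← Functor.map_smul, hc, Functor.map_zero]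
  rw [← cancel_epi g, comp_zero, ← cancel_mono e.inv, zero_comp, Category.assoc]
  exact h1

end GrothLib.SGA2Fin
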